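import Cfsg.Agent.Lib.TwoPOrders.Nilpotent
import Cfsg.Agent.Lib.SolvableTransitive.Main
import Cfsg.Agent.Lib.Transfer.Burnside

/-!
# No group with element orders `1`, primes, `2 p` and Sylow 2-subgroup of order at least 8

With a trivial signalizer the automizer is a semilinear group, an element `x` of order `p`
centralizing an involution generates a Sylow `p`-subgroup, and transfer splits it off.
-/

set_option autoImplicit false
set_option linter.style.haveILetI false
set_option linter.unusedSectionVars false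

namespace Cfsg.Agent.TwoPOrders

open Cfsg Subgroup
open Cfsg.Agent.InvolRankOne (O W M)
open Cfsg.Agent.Involution

universe u

theorem mem_zpowers_of_pow_eq_one {C : Type u} [Group C] [Finite C] [IsCyclic C] {p : ℕ}
    (hp : p.Prime) {x z : C} (hx : orderOf x = p) (hz : z ^ p = 1) : z ∈ zpowers x := by
  classical
  haveI := Fintype.ofFinite C
  have hsub : (zpowers x : Set C) ⊆ {a : C | a ^ p = 1} := fun a ha => by
    obtain ⟨i, rfl⟩ := mem_zpowers_iff.1 ha
    show (x ^ i) ^ p = 1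
    rw [← zpow_natCast, ← zpow_mul, mul_comm, zpow_mul, zpow_natCast, ← hx, pow_orderOf_eq_one,
      one_zpow]
  have hle : {a : C | a ^ p = 1}.ncard ≤ (zpowers x : Set C).ncard := by
    rw [← Nat.card_coe_set_eq (zpowers x : Set C)]
    show _ ≤ Nat.card (zpowers x)
    rw [Nat.card_zpowers, hx,
      show {a : C | a ^ p = 1} = ↑(Finset.univ.filter fun a : C => a ^ p = 1) by ext a; simp,
      Set.ncard_coe_finset]
    exact IsCyclic.card_pow_eq_one_le hp.pos
  exact (Set.eq_of_subset_of_ncard_le hsub hle (Set.toFinite _)).ge hz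

variable {G : Type u} [Group G] [Finite G] {p : ℕ} {P : Sylow 2 G}

namespace Hyp

variable (H : Hyp p P)
include H

theorem centralizer_P_le : centralizer ((P : Subgroup G) : Set G) ≤ (P : Subgroup G) := by
  haveI : Fact (Nat.Prime 2) := ⟨Nat.prime_two⟩
  intro c hc
  obtain ⟨u, hu, hu1⟩ := H.exists_mem
  haveI := H.isSolvable_C hu1 (Or.inl (H.orderOf_eq_two hu hu1))
  have hO : pPrimeCore 2 (centralizer ({u} : Set G)) = ⊥ := by
    rw [← map_eq_bot_iff_of_injective _ (subtype_injective _), ← le_bot_iff]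
    exact (H.O_le_W hu hu1).trans H.W_eq_bot.le
  let T := P.subtype (H.le_cent hu)
  have hcX : c ∈ centralizer ({u} : Set G) :=
    mem_centralizer_singleton_iff.2 (mem_centralizer_iff.1 hc u hu).symm
  have hmem : (⟨c, hcX⟩ : centralizer ({u} : Set G)) ∈ (T : Subgroup (centralizer ({u} : Set G))) :=
    PCore.pCore_le_sylow T (PCore.centralizer_pCore_le_of_isSolvable hO (mem_centralizer_iff.2
      fun z hz => Subtype.ext (mem_centralizer_iff.1 hc z (PCore.pCore_le_sylow T hz))))
  exact hmem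

/-- Some `x` of order `p` centralizes some involution of `P`. -/
theorem exists_x : ∃ u ∈ (P : Subgroup G), ∃ x ∈ centralizer ({u} : Set G),
    u ≠ 1 ∧ orderOf x = p := by
  obtain ⟨g, hg⟩ := H.ex
  have h2 : orderOf (g ^ p) = 2 := by
    rw [orderOf_pow_of_dvd H.prime.ne_zero (hg ▸ dvd_mul_left p 2), hg,
      Nat.mul_div_cancel _ H.prime.pos]
  have hp : orderOf (g ^ 2) = p := by
    rw [orderOf_pow_of_dvd two_ne_zero (hg ▸ dvd_mul_right 2 p), hg,
      Nat.mul_div_cancel_left _ two_pos]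
  obtain ⟨u, hu, hu1⟩ := H.exists_mem
  obtain ⟨k, hk⟩ := isConj_iff.1 (StrongEmb.isConj_involutions H.isStronglyEmbedded h2
    (H.orderOf_eq_two hu hu1))
  refine ⟨u, hu, k * g ^ 2 * k⁻¹, mem_centralizer_singleton_iff.2 ?_, hu1,
    by rw [StrongEmb.orderOf_conj', hp]⟩
  rw [← hk]
  exact (((Commute.refl g).pow_pow 2 p).map (MulAut.conj k)).eq

theorem exists_hom : ∃ (C : Type u) (_ : Group C) (_ : Finite C) (_ : IsCyclic C)
    (φ : normalizer ((P : Subgroup G) : Set G) →* C),
    ∀ y, y ^ p = 1 → φ y = 1 → y = 1 := by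
  haveI : Fact (Nat.Prime 2) := ⟨Nat.prime_two⟩
  haveI := Fact.mk H.prime
  set N := normalizer ((P : Subgroup G) : Set G) with hN
  set ψ := (P : Subgroup G).normalizerMonoidHom with hψ
  haveI : IsMulCommutative (P : Subgroup G) := ⟨⟨fun a b => Subtype.ext (H.comm P.2 a.2 b.2)⟩⟩
  letI : CommGroup (P : Subgroup G) :=
    { (inferInstance : Group (P : Subgroup G)) with
      mul_comm := fun a b => Subtype.ext (H.comm P.2 a.2 b.2) }
  let E := ψ.range
  let V := Additive (P : Subgroup G)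
  letI : DistribMulAction E V :=
    { smul := fun e v => Additive.ofMul ((e : MulAut (P : Subgroup G)) (Additive.toMul v))
      one_smul := fun v => rfl
      mul_smul := fun e f v => rfl
      smul_zero := fun e => congrArg Additive.ofMul (map_one (e : MulAut (P : Subgroup G)))
      smul_add := fun e v w => congrArg Additive.ofMul
        (map_mul (e : MulAut (P : Subgroup G)) (Additive.toMul v) (Additive.toMul w)) }
  haveI : FaithfulSMul E V := ⟨fun {e f} h => Subtype.ext (MulEquiv.ext fun a => h (Additive.ofMul a))⟩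
  have hψ1 : ∀ y : N, ψ y = 1 → (y : G) ∈ (P : Subgroup G) := fun y hy => H.centralizer_P_le (by
    have h : y ∈ ψ.ker := hy
    rwa [hψ, normalizerMonoidHom_ker] at h)
  have hker : ∀ y : N, (y : G) ∈ (P : Subgroup G) → ψ y = 1 := fun y hy =>
    MulEquiv.ext fun a => Subtype.ext (mul_inv_eq_iff_eq_mul.2 (H.comm P.2 hy a.2))
  have hord : ∀ e : E, e ≠ 1 → (orderOf e).Prime ∧ orderOf e ≠ 2 := by
    rintro ⟨_, y, rfl⟩ he
    have he' : ψ y ≠ 1 := fun h => he (Subtype.ext h)
    rw [← Subgroup.orderOf_coe]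
    show (orderOf (ψ y)).Prime ∧ orderOf (ψ y) ≠ 2
    have hy1 : (y : G) ≠ 1 := fun h => he' (hker y (h.symm ▸ one_mem _))
    rcases H.ord _ hy1 with h | h <;> rw [Subgroup.orderOf_coe] at h
    · have heq : orderOf (ψ y) = orderOf y :=
        ((Nat.dvd_prime h).1 (orderOf_map_dvd ψ y)).resolve_left fun e => he' (orderOf_eq_one_iff.1 e)
      refine ⟨heq ▸ h, fun e => he' (hker y (H.mem_P y.2 ?_))⟩
      rw [← pow_two, ← e, heq, ← Subgroup.orderOf_coe, pow_orderOf_eq_one]
    · have hi : orderOf ((y : G) ^ p) = 2 := by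
        rw [orderOf_pow_of_dvd H.prime.ne_zero
          (by rw [Subgroup.orderOf_coe, h]; exact dvd_mul_left p 2), Subgroup.orderOf_coe, h,
          Nat.mul_div_cancel _ H.prime.pos]
      have h1 : ψ y ^ p = 1 := by
        rw [← map_pow]
        refine hker _ (H.mem_P (y ^ p).2 ?_)
        rw [SubmonoidClass.coe_pow]
        exact StrongEmb.mul_self_of_orderOf hi
      rw [orderOf_eq_prime h1 he']
      exact ⟨H.prime, H.odd⟩
  have hodd : Odd (Nat.card E) := Nat.not_even_iff_odd.1 fun h => by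
    obtain ⟨e, he⟩ := exists_prime_orderOf_dvd_card' 2 h.two_dvd
    exact (hord e fun h1 => by rw [h1, orderOf_one] at he; exact absurd he (by norm_num)).2 he
  have hsol : Group.IsSolvable E := S0205.result hodd
  obtain ⟨u, hu, x, hx, hu1, hxp⟩ := H.exists_x
  haveI : Nontrivial V := ⟨⟨0, Additive.ofMul ⟨u, hu⟩, fun h => hu1
    (congrArg Subtype.val (congrArg Additive.toMul h)).symm⟩⟩
  have htrans : ∀ a b : V, a ≠ 0 → b ≠ 0 → ∃ g : E, g • a = b := fun a b ha hb => by
    obtain ⟨n, hn, he⟩ := H.transitive (Additive.toMul a).2 (fun h => ha (congrArg Additive.ofMul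
      (Subtype.ext h : Additive.toMul a = 1))) (Additive.toMul b).2
      (fun h => hb (congrArg Additive.ofMul (Subtype.ext h : Additive.toMul b = 1)))
    exact ⟨⟨ψ ⟨n, hn⟩, ⟨_, rfl⟩⟩, congrArg Additive.ofMul (Subtype.ext he)⟩
  rcases SolvableTransitive.selfCentralizing_or_exception (G := E) (V := V) hsol Nat.prime_two
    (fun v => by
      rw [two_nsmul]
      exact congrArg Additive.ofMul (Subtype.ext (H.sq P.2 (Additive.toMul v).2) :
        Additive.toMul v * Additive.toMul v = 1))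
    htrans with ⟨A, hAn, hA, hcA, hspan⟩ | hexc
  swap
  · have h2 : 2 ∣ Nat.card V := H.even_card_P
    simp only [Set.mem_insert_iff, Set.mem_singleton_iff] at hexc
    rcases hexc with h | h | h | h | h | h <;> rw [h] at h2 <;> omega
  haveI := hAn
  haveI := hA
  have hsemi : ∀ a ∈ A, ∀ v : V, v ≠ 0 → a • v = v → a = 1 := fun a ha v hv hav =>
    eq_of_smul_eq_smul fun w : V => by
      obtain ⟨r, hr, rfl⟩ := hspan v w hv
      have h := DFunLike.congr_fun (SolvableTransitive.spanRing_commute (hcA.symm ▸ ha) hr) v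
      rw [one_smul]
      exact h.trans (congrArg r hav)
  haveI : IsCyclic A := by
    letI : Field ↥(SolvableTransitive.spanRing V A) :=
      (SolvableTransitive.isField_spanRing htrans hA).toField
    let f : A →* ↥(SolvableTransitive.spanRing V A) :=
      { toFun := fun a => ⟨SolvableTransitive.toEnd V (a : E),
          SolvableTransitive.toEnd_mem_spanRing a.2⟩
        map_one' := Subtype.ext (map_one _)
        map_mul' := fun a b => Subtype.ext (map_mul _ _ _) }
    exact isCyclic_of_subgroup_isDomain f fun a b h => Subtype.ext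
      (SolvableTransitive.toEnd_injective (congrArg Subtype.val h))
  have hxN : x ∈ N := H.C_le_N hu hu1 hx
  set e : E := ψ.rangeRestrict ⟨x, hxN⟩ with hedef
  have hep : e ^ p = 1 := by
    rw [hedef, ← map_pow, show (⟨x, hxN⟩ : N) ^ p = 1 from Subtype.ext
      (by rw [SubmonoidClass.coe_pow, ← hxp, pow_orderOf_eq_one]; rfl), map_one]
  have he1 : e ≠ 1 := fun h => by
    have := hψ1 ⟨x, hxN⟩ (congrArg Subtype.val h)
    have h2 := orderOf_dvd_of_pow_eq_one (x := x) (n := 2) (by rw [pow_two]; exact H.sq P.2 this)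
    rw [hxp] at h2
    exact H.odd ((Nat.prime_dvd_prime_iff_eq H.prime Nat.prime_two).1 h2)
  have heA : e ∉ A := fun h => he1 (hsemi e h (Additive.ofMul ⟨u, hu⟩)
    (fun h0 => hu1 (congrArg Subtype.val (congrArg Additive.toMul h0)))
    (congrArg Additive.ofMul (Subtype.ext (mul_inv_eq_iff_eq_mul.2
      (mem_centralizer_singleton_iff.1 hx)))))
  have hAprime : (Nat.card A).Prime := by
    obtain ⟨g, hg⟩ := IsCyclic.exists_generator (α := A)
    have hcard := orderOf_eq_card_of_forall_mem_zpowers hg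
    have hg1 : (g : E) ≠ 1 := fun h => heA (hcA ▸ mem_centralizer_iff.2 fun b hb => by
      obtain ⟨i, hi⟩ := mem_zpowers_iff.1 (hg ⟨b, hb⟩)
      rw [← show ((g ^ i : A) : E) = b from congrArg Subtype.val hi, SubgroupClass.coe_zpow, h,
        one_zpow, one_mul, mul_one])
    rw [← hcard, ← Subgroup.orderOf_coe]
    exact (hord _ hg1).1
  have hpA : ¬ p ∣ Nat.card A := fun hd => by
    have hcard : Nat.card A = p := ((Nat.prime_dvd_prime_iff_eq H.prime hAprime).1 hd).symm
    have hc := IsCyclic.card_mulAut (G := A)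
    rw [hcard, Nat.totient_prime H.prime] at hc
    have h1 : (MulAut.conjNormal e : MulAut A) ^ p = 1 := by rw [← map_pow, hep, map_one]
    have h2 := orderOf_dvd_of_pow_eq_one h1
    have h3 := orderOf_dvd_natCard (MulAut.conjNormal e : MulAut A)
    rw [hc] at h3
    have h4 : (MulAut.conjNormal e : MulAut A) = 1 := orderOf_eq_one_iff.1
      (((Nat.dvd_prime H.prime).1 h2).resolve_right fun h => by
        rw [h] at h3
        have h6 := Nat.le_of_dvd (show 0 < p - 1 by have := H.prime.two_le; omega) h3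
        have := H.prime.two_le
        omega)
    refine heA (hcA ▸ mem_centralizer_iff.2 fun b hb => ?_)
    have h5 := congrArg (fun f : MulAut A => ((f ⟨b, hb⟩ : A) : E)) h4
    simp only [MulAut.conjNormal_apply, MulAut.one_apply] at h5
    exact (mul_inv_eq_iff_eq_mul.1 h5).symm
  refine ⟨MulAut A, inferInstance, inferInstance,
    haveI := ZMod.isCyclic_units_prime hAprime
    isCyclic_of_surjective (IsCyclic.mulAutMulEquiv A).symm.toMonoidHom (MulEquiv.surjective _), (MulAut.conjNormal (H := A)).comp ψ.rangeRestrict, fun y hy hφ => ?_⟩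
  have hyA : ψ.rangeRestrict y ∈ A := hcA ▸ mem_centralizer_iff.2 fun b hb => by
    have h5 := congrArg (fun f : MulAut A => ((f ⟨b, hb⟩ : A) : E)) hφ
    simp only [MonoidHom.comp_apply, MulAut.conjNormal_apply, MulAut.one_apply] at h5
    exact (mul_inv_eq_iff_eq_mul.1 h5).symm
  have hy' : ψ.rangeRestrict y = 1 := orderOf_eq_one_iff.1 (Nat.eq_one_of_dvd_coprimes
    (H.prime.coprime_iff_not_dvd.2 hpA) (orderOf_dvd_of_pow_eq_one (by rw [← map_pow, hy, map_one]))
    (A.orderOf_dvd_natCard hyA))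
  have hyP := hψ1 y (congrArg Subtype.val hy')
  refine Subtype.ext (orderOf_eq_one_iff.1 (Nat.eq_one_of_dvd_coprimes
    (Nat.coprime_two_left.2 H.p_odd) (orderOf_dvd_of_pow_eq_one (by rw [pow_two]; exact H.sq P.2 hyP))
    (orderOf_dvd_of_pow_eq_one (by rw [← SubmonoidClass.coe_pow, hy]; rfl))))

/-- An element conjugating an involution of `P` into `P` normalizes `P`. -/
theorem mem_N {u b : G} (hu : u ∈ (P : Subgroup G)) (hu1 : u ≠ 1)
    (hb : b * u * b⁻¹ ∈ (P : Subgroup G)) : b ∈ normalizer ((P : Subgroup G) : Set G) := by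
  have hle : (P : Subgroup G).map (MulAut.conj b).toMonoidHom ≤ (P : Subgroup G) := by
    rintro _ ⟨a, ha, rfl⟩
    refine H.mem_P (H.C_le_N hb (fun h => hu1 (conj_eq_one_iff.1 h))
      (mem_centralizer_singleton_iff.2 ?_)) ?_
    · show b * a * b⁻¹ * (b * u * b⁻¹) = b * u * b⁻¹ * (b * a * b⁻¹)
      calc b * a * b⁻¹ * (b * u * b⁻¹) = b * (a * u) * b⁻¹ := by group
        _ = b * (u * a) * b⁻¹ := by rw [H.comm P.2 ha hu]
        _ = _ := by group
    · show b * a * b⁻¹ * (b * a * b⁻¹) = 1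
      calc b * a * b⁻¹ * (b * a * b⁻¹) = b * (a * a) * b⁻¹ := by group
        _ = 1 := by rw [H.sq P.2 ha]; group
  have heq := eq_of_le_of_card_ge hle (card_map_of_injective (MulAut.conj b).injective).ge
  refine mem_normalizer_iff.2 fun a => ⟨fun ha => hle ⟨a, ha, rfl⟩, fun ha => ?_⟩
  obtain ⟨a', ha', he⟩ := (heq.symm ▸ ha :
    b * a * b⁻¹ ∈ (P : Subgroup G).map (MulAut.conj b).toMonoidHom)
  exact (mul_left_cancel (mul_right_cancel he) : a' = a) ▸ ha'

theorem no_twoP : False := by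
  haveI : Fact (Nat.Prime 2) := ⟨Nat.prime_two⟩
  haveI := Fact.mk H.prime
  haveI := H.simple
  obtain ⟨u, hu, x, hx, hu1, hxp⟩ := H.exists_x
  set N := normalizer ((P : Subgroup G) : Set G) with hN
  obtain ⟨C, _, _, _, φ, hφ⟩ := H.exists_hom
  have hcommC : ∀ a b : C, a * b = b * a := fun a b => by
    obtain ⟨g, hg⟩ := IsCyclic.exists_generator (α := C)
    obtain ⟨i, rfl⟩ := mem_zpowers_iff.1 (hg a)
    obtain ⟨j, rfl⟩ := mem_zpowers_iff.1 (hg b)
    rw [← zpow_add, ← zpow_add, add_comm]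
  have hxN : x ∈ N := H.C_le_N hu hu1 hx
  have hux : u * x = x * u := (mem_centralizer_singleton_iff.1 hx).symm
  have hu2 := H.orderOf_eq_two hu hu1
  have hx1 : x ≠ 1 := fun h => H.prime.ne_one (by rw [← hxp, h, orderOf_one])
  have hxpow : x ^ p = 1 := by rw [← hxp, pow_orderOf_eq_one]
  -- a Sylow 2-subgroup of `C(x)` at `u` lies in `P`
  have hsyl : ∀ T : Sylow 2 (centralizer ({x} : Set G)),
      (⟨u, mem_centralizer_singleton_iff.2 hux⟩ : centralizer ({x} : Set G)) ∈
        (T : Subgroup (centralizer ({x} : Set G))) →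
      ∀ a : centralizer ({x} : Set G), a ∈ (T : Subgroup (centralizer ({x} : Set G))) →
        (a : G) ∈ (P : Subgroup G) := fun T huT a ha =>
    H.mem_P (H.C_le_N hu hu1 (mem_centralizer_singleton_iff.2
      (H.comm (T.2.map (centralizer ({x} : Set G)).subtype) ⟨a, ha, rfl⟩ ⟨_, huT, rfl⟩)))
      (H.sq (T.2.map (centralizer ({x} : Set G)).subtype) ⟨a, ha, rfl⟩)
  obtain ⟨T, hT⟩ : ∃ T : Sylow 2 (centralizer ({x} : Set G)),
      (⟨u, mem_centralizer_singleton_iff.2 hux⟩ : centralizer ({x} : Set G)) ∈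
        (T : Subgroup (centralizer ({x} : Set G))) := by
    obtain ⟨T, hT⟩ := (IsPGroup.of_card (n := 1) (p := 2) (G := zpowers
      (⟨u, mem_centralizer_singleton_iff.2 hux⟩ : centralizer ({x} : Set G))) (by
        rw [Nat.card_zpowers, Subgroup.orderOf_mk, hu2, pow_one])).exists_le_sylow
    exact ⟨T, hT (mem_zpowers _)⟩
  -- the normalizer of `⟨x⟩` centralizes `x`
  have hNx : ∀ n : G, n * x * n⁻¹ ∈ zpowers x → n⁻¹ * x * n ∈ zpowers x → n * x = x * n := by
    intro n hn hn'
    have hv : n * u * n⁻¹ ∈ centralizer ({x} : Set G) := mem_centralizer_singleton_iff.2 (by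
      obtain ⟨i, hi⟩ := mem_zpowers_iff.1 hn'
      calc n * u * n⁻¹ * x = n * (u * (n⁻¹ * x * n)) * n⁻¹ := by group
        _ = n * ((n⁻¹ * x * n) * u) * n⁻¹ := by rw [← hi, (Commute.zpow_right hux i).eq]
        _ = x * (n * u * n⁻¹) := by group)
    obtain ⟨T', hT'⟩ := (IsPGroup.of_card (n := 1) (p := 2) (G := zpowers
      (⟨_, hv⟩ : centralizer ({x} : Set G))) (by
        rw [Nat.card_zpowers, Subgroup.orderOf_mk, StrongEmb.orderOf_conj', hu2,
          pow_one])).exists_le_sylow
    obtain ⟨c, hc⟩ := MulAction.exists_smul_eq (centralizer ({x} : Set G)) T' T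
    have hm : MulAut.conj c ⟨_, hv⟩ ∈ ((c • T' : Sylow 2 _) : Subgroup _) :=
      ⟨_, hT' (mem_zpowers _), rfl⟩
    rw [hc] at hm
    have hb : ((c : G) * n) * u * ((c : G) * n)⁻¹ ∈ (P : Subgroup G) := by
      have := hsyl T hT _ hm
      simpa [mul_assoc] using this
    have hbN : (c : G) * n ∈ N := H.mem_N hu hu1 hb
    have hcx : (c : G) * x = x * c := mem_centralizer_singleton_iff.1 c.2
    obtain ⟨i, hi⟩ := mem_zpowers_iff.1 hn
    have hconj : (c : G) * n * x * ((c : G) * n)⁻¹ = n * x * n⁻¹ := by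
      calc (c : G) * n * x * ((c : G) * n)⁻¹ = c * (n * x * n⁻¹) * (c : G)⁻¹ := by group
        _ = n * x * n⁻¹ := by
          rw [← hi, (Commute.zpow_right (show Commute (c : G) x from hcx) i).eq,
            mul_inv_cancel_right]
    set z : N := ⟨c * n, hbN⟩ * ⟨x, hxN⟩ * ⟨c * n, hbN⟩⁻¹ * ⟨x, hxN⟩⁻¹ with hz
    have hz1 : z = 1 := by
      refine hφ z ?_ ?_
      · refine Subtype.ext ?_
        rw [SubmonoidClass.coe_pow, hz]
        show ((c : G) * n * x * ((c : G) * n)⁻¹ * x⁻¹) ^ p = 1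
        rw [hconj, ← hi, ← zpow_neg_one, ← zpow_add, ← zpow_natCast, ← zpow_mul, mul_comm,
          zpow_mul, zpow_natCast, hxpow, one_zpow]
      · rw [hz, map_mul, map_mul, map_mul, map_inv, map_inv, mul_inv_eq_one, mul_inv_eq_iff_eq_mul]
        exact hcommC _ _
    have h : (c : G) * n * x * ((c : G) * n)⁻¹ * x⁻¹ = 1 := congrArg Subtype.val hz1
    rw [hconj, mul_inv_eq_one, mul_inv_eq_iff_eq_mul] at h
    exact h
  -- no involution inverts an element of order `p`
  have hinv : ∀ g t : G, orderOf g = p → t * g * t⁻¹ = g⁻¹ → False := by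
    intro g t hg ht
    obtain ⟨f, rfl⟩ := H.conj g x hg hxp
    have h1 : f t * f g * (f t)⁻¹ = (f g)⁻¹ := by
      rw [← map_inv f t, ← map_mul, ← map_mul, ht, map_inv]
    have h2 : (f t)⁻¹ * f g * f t = (f g)⁻¹ := by
      have := congrArg (·⁻¹) h1
      simp only [mul_inv_rev, inv_inv] at this
      calc (f t)⁻¹ * f g * f t = (f t)⁻¹ * (f t * ((f g)⁻¹ * (f t)⁻¹)) * f t := by rw [this]
        _ = (f g)⁻¹ := by group
    have h3 := hNx (f t) (h1 ▸ inv_mem (mem_zpowers _)) (h2 ▸ inv_mem (mem_zpowers _))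
    rw [h3, mul_inv_cancel_right] at h1
    have := orderOf_dvd_of_pow_eq_one (x := f g) (n := 2) (by rw [pow_two]; exact mul_eq_one_iff_eq_inv.2 h1)
    rw [hxp] at this
    exact H.odd ((Nat.prime_dvd_prime_iff_eq H.prime Nat.prime_two).1 this)
  -- `C(x)` normalizes `P`
  have hCx : centralizer ({x} : Set G) ≤ N := by
    intro c hc
    haveI := H.isSolvable_C hx1 (Or.inr hxp)
    obtain ⟨k, hk, n, hn, he⟩ := exists_decomp T (fun a ha b hb => Subtype.ext
      (H.comm (T.2.map (centralizer ({x} : Set G)).subtype) ⟨a, ha, rfl⟩ ⟨b, hb, rfl⟩)) ⟨c, hc⟩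
    have hnN : (n : G) ∈ N :=
      H.mem_N hu hu1 (hsyl T hT _ ((mem_normalizer_iff.1 hn _).1 hT))
    have hkN : (k : G) ∈ N := by
      refine H.C_le_N hu hu1 (mem_centralizer_singleton_iff.2 ?_)
      by_contra hne
      set u' : centralizer ({x} : Set G) := ⟨u, mem_centralizer_singleton_iff.2 hux⟩
      have hd : u' * k * u'⁻¹ * k⁻¹ ∈ pPrimeCore 2 (centralizer ({x} : Set G)) :=
        mul_mem (PCore.pPrimeCore_normal.conj_mem k hk u') (inv_mem hk)
      have hodd : Odd (orderOf ((u : G) * k * u⁻¹ * (k : G)⁻¹)) := by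
        rw [show (u : G) * k * u⁻¹ * (k : G)⁻¹ = ((u' * k * u'⁻¹ * k⁻¹ : centralizer ({x} : Set G)) : G)
          from rfl, Subgroup.orderOf_coe]
        exact (Nat.coprime_two_right.1 PCore.coprime_card_pPrimeCore).of_dvd_nat
          (Subgroup.orderOf_dvd_natCard _ hd)
      have hdx : Commute ((u : G) * k * u⁻¹ * (k : G)⁻¹) x :=
        mem_centralizer_singleton_iff.1 (u' * k * u'⁻¹ * k⁻¹).2
      generalize hddef : (u : G) * k * u⁻¹ * (k : G)⁻¹ = d at hodd hdx
      have hd1 : d ≠ 1 := fun h => hne (by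
        rw [← hddef, mul_inv_eq_one, mul_inv_eq_iff_eq_mul] at h
        exact h.symm)
      refine hinv d u ?_ ?_
      · rcases H.ord d hd1 with h | h
        · by_contra hne'
          rcases H.primes_of_commute h H.prime hne' rfl hxp hdx with e | e
          · rw [e.1] at hodd; exact absurd hodd (by decide)
          · exact hne' e.1
        · rw [h] at hodd
          exact absurd hodd (Nat.not_odd_iff_even.2 (even_two_mul p))
      · rw [← hddef, StrongEmb.inv_eq_of_orderOf hu2, mul_inv_rev, mul_inv_rev, mul_inv_rev,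
          inv_inv, StrongEmb.inv_eq_of_orderOf hu2]
        simp only [← mul_assoc, StrongEmb.mul_self_of_orderOf hu2, one_mul]
    rw [show c = (k : G) * n from (congrArg Subtype.val he).symm]
    exact mul_mem hkN hnN
  -- `⟨x⟩` is a Sylow `p`-subgroup
  have hzp : ∀ z : G, z ∈ centralizer ({x} : Set G) → z ^ p = 1 → z ∈ zpowers x := by
    intro z hz hzp
    have hxφ : orderOf (φ ⟨x, hxN⟩) = p := orderOf_eq_prime
      (by rw [← map_pow, show (⟨x, hxN⟩ : N) ^ p = 1 from Subtype.ext hxpow, map_one])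
      fun h => hx1 (congrArg Subtype.val (hφ ⟨x, hxN⟩ (Subtype.ext hxpow) h))
    obtain ⟨i, hi⟩ := mem_zpowers_iff.1 (mem_zpowers_of_pow_eq_one H.prime hxφ
      (z := φ ⟨z, hCx hz⟩) (by rw [← map_pow, show (⟨z, hCx hz⟩ : N) ^ p = 1 from Subtype.ext hzp,
        map_one]))
    have hw : (⟨x, hxN⟩ : N) ^ i * (⟨z, hCx hz⟩ : N)⁻¹ = 1 := by
      refine hφ _ (Subtype.ext ?_) (by rw [map_mul, map_zpow, map_inv, hi, mul_inv_cancel])
      show (x ^ i * z⁻¹) ^ p = 1
      rw [Commute.mul_pow ((show Commute x z from (mem_centralizer_singleton_iff.1 hz).symm).zpow_left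
        i).inv_right, inv_pow, hzp, inv_one, mul_one, ← zpow_natCast, ← zpow_mul, mul_comm,
        zpow_mul, zpow_natCast, hxpow, one_zpow]
    exact mem_zpowers_iff.2 ⟨i, mul_inv_eq_one.1 (congrArg Subtype.val hw)⟩
  obtain ⟨R, hR⟩ := (IsPGroup.of_card (n := 1) (p := p) (G := zpowers x)
    (by rw [Nat.card_zpowers, hxp, pow_one])).exists_le_sylow
  have hexp : ∀ r ∈ (R : Subgroup G), r ^ p = 1 := fun r hr => by
    obtain ⟨k, hk⟩ := IsPGroup.iff_orderOf.1 R.2 ⟨r, hr⟩
    rw [Subgroup.orderOf_mk] at hk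
    by_cases h1 : r = 1
    · rw [h1, one_pow]
    rcases H.ord r h1 with h | h
    · rw [← (Nat.prime_dvd_prime_iff_eq h H.prime).1 (h.dvd_of_dvd_pow (dvd_of_eq hk)),
        pow_orderOf_eq_one]
    · exact absurd ((Nat.prime_dvd_prime_iff_eq Nat.prime_two H.prime).1
        (Nat.prime_two.dvd_of_dvd_pow (Dvd.intro p (h.symm.trans hk)))).symm H.odd
  have hRx : (R : Subgroup G) = zpowers x := by
    refine le_antisymm ?_ hR
    haveI : Nontrivial (R : Subgroup G) :=
      ⟨⟨1, ⟨x, hR (mem_zpowers _)⟩, fun h => hx1 (congrArg Subtype.val h).symm⟩⟩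
    haveI := R.2.center_nontrivial
    obtain ⟨⟨z, hzc⟩, hz1⟩ := exists_ne (1 : center (R : Subgroup G))
    have hzr : ∀ r ∈ (R : Subgroup G), r * (z : G) = z * r := fun r hr =>
      congrArg Subtype.val (mem_center_iff.1 hzc ⟨r, hr⟩)
    have hzx := hzp z (mem_centralizer_singleton_iff.2 (hzr x (hR (mem_zpowers _))).symm)
      (hexp z z.2)
    have hz1' : (z : G) ≠ 1 := fun h => hz1 (Subtype.ext (Subtype.ext h))
    haveI hzx' : x ∈ zpowers (z : G) := mem_zpowers_of_prime_card (p := p)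
      (G := zpowers x) (by rw [Nat.card_zpowers, hxp]) (g := ⟨z, hzx⟩)
      (g' := ⟨x, mem_zpowers x⟩) (fun h => hz1' (congrArg Subtype.val h))
      |> fun h => by
        obtain ⟨i, hi⟩ := mem_zpowers_iff.1 h
        exact mem_zpowers_iff.2 ⟨i, congrArg Subtype.val hi⟩
    intro r hr
    obtain ⟨i, hi⟩ := mem_zpowers_iff.1 hzx'
    refine hzp r (mem_centralizer_singleton_iff.2 ?_) (hexp r hr)
    rw [← hi]
    exact (Commute.zpow_right (hzr r hr) i).eq
  have hnc : normalizer ((R : Subgroup G) : Set G) ≤ centralizer ((R : Subgroup G) : Set G) := by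
    intro n hn
    rw [hRx] at hn ⊢
    have h2 : n⁻¹ * x * n ∈ zpowers x := by
      have := (mem_normalizer_iff.1 (inv_mem hn) x).1 (mem_zpowers x)
      rwa [inv_inv] at this
    have h := hNx n ((mem_normalizer_iff.1 hn x).1 (mem_zpowers x)) h2
    refine mem_centralizer_iff.2 fun y hy => ?_
    obtain ⟨i, rfl⟩ := mem_zpowers_iff.1 hy
    exact (Commute.zpow_right h i).eq.symm
  obtain ⟨Q, K, hK, hc⟩ := Transfer.hasNormalPComplement_of_normalizer_le_centralizer R hnc
  haveI := hK
  rcases hK.eq_bot_or_eq_top with h | h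
  · rw [h, isComplement'_bot_left] at hc
    have hp : IsPGroup p (⊤ : Subgroup G) := hc ▸ Q.2
    have hu' : (2 : ℕ) ∣ Nat.card (⊤ : Subgroup G) := by
      rw [card_top]; exact hu2 ▸ orderOf_dvd_natCard u
    obtain ⟨k, hk⟩ := IsPGroup.iff_card.1 hp
    exact H.odd ((Nat.prime_dvd_prime_iff_eq Nat.prime_two H.prime).1
      (Nat.prime_two.dvd_of_dvd_pow (hk ▸ hu'))).symm
  · rw [h, isComplement'_top_left] at hc
    have hQR : Nat.card (Q : Subgroup G) = Nat.card (R : Subgroup G) := by
      rw [Q.card_eq_multiplicity, R.card_eq_multiplicity]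
    rw [hc, card_bot, hRx, Nat.card_zpowers, hxp] at hQR
    exact H.prime.ne_one hQR.symm

end Hyp

end Cfsg.Agent.TwoPOrders
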