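import Cfsg.Agent.Lib.TwoPOrders.Trace
import Cfsg.Agent.Lib.InvolRankOne.Setup
import Cfsg.Agent.Lib.PCore.HallHigman
import Cfsg.Agent.Lib.Coprime.Generation
import Cfsg.Agent.Lib.Perm.InvolutionDerangements
import Cfsg.Agent.Lib.Involution.StrongEmb
import Cfsg.Agent.S4068

/-!
# Element orders `1`, primes and `2 p`, with a Sylow 2-subgroup of order at least 8

The cores of the involution centralizers generate a `p`-group `W` with `W ⊔ N(P)` strongly embedded;
`N(P)` has an element of prime order fixed point free on `P`, so `P` centralizes `W` and contains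
with `W` everything outside the automizer.
-/

set_option autoImplicit false
set_option linter.style.haveILetI false
set_option linter.unusedSectionVars false

namespace Cfsg.Agent.TwoPOrders

open Cfsg Subgroup
open Cfsg.Agent.InvolRankOne (O W M)
open Cfsg.Agent.Involution

universe u

/-- In a solvable group with commutative Sylow 2-subgroup `T`: `X = O(X) N(T)`. -/
theorem sylow_normalizer_sup {X : Type u} [Group X] [Finite X] [Group.IsSolvable X] (T : Sylow 2 X)
    (hT : ∀ a ∈ (T : Subgroup X), ∀ b ∈ (T : Subgroup X), a * b = b * a) :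
    pPrimeCore 2 X ⊔ normalizer ((T : Subgroup X) : Set X) = ⊤ := by
  haveI : Fact (Nat.Prime 2) := ⟨Nat.prime_two⟩
  haveI : (pPrimeCore 2 X).Normal := PCore.pPrimeCore_normal
  set f := QuotientGroup.mk' (pPrimeCore 2 X)
  let T' : Sylow 2 (X ⧸ pPrimeCore 2 X) := T.mapSurjective (QuotientGroup.mk'_surjective _)
  have hT' : (T' : Subgroup (X ⧸ pPrimeCore 2 X)) = (T : Subgroup X).map f := rfl
  have hle : pCore 2 (X ⧸ pPrimeCore 2 X) ≤ T' := PCore.pCore_le_sylow T'
  have heq : (T' : Subgroup (X ⧸ pPrimeCore 2 X)) = pCore 2 (X ⧸ pPrimeCore 2 X) := by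
    refine le_antisymm (fun y hy => PCore.centralizer_pCore_le_of_isSolvable
      PCore.pPrimeCore_quotient_self_eq_bot (mem_centralizer_iff.2 fun z hz => ?_)) hle
    obtain ⟨a, ha, rfl⟩ := (hT' ▸ hy : y ∈ (T : Subgroup X).map f)
    obtain ⟨b, hb, rfl⟩ := (hT' ▸ hle hz : z ∈ (T : Subgroup X).map f)
    rw [← map_mul, ← map_mul, hT a ha b hb]
  haveI hn : ((T : Subgroup X).map f).Normal := by
    rw [← hT', heq]
    exact PCore.pCore_normal
  have h := Sylow.normalizer_sup_eq_top' (N := ((T : Subgroup X).map f).comap f) T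
    (le_comap_map _ _)
  rw [comap_map_eq, QuotientGroup.ker_mk'] at h
  refine top_le_iff.1 (le_of_eq_of_le h.symm (sup_le le_sup_right (sup_le ?_ le_sup_left)))
  exact le_sup_of_le_right le_normalizer

theorem exists_decomp {G : Type u} [Group G] [Finite G] {X : Subgroup G} [Group.IsSolvable X]
    (T : Sylow 2 X) (hT : ∀ a ∈ (T : Subgroup X), ∀ b ∈ (T : Subgroup X), a * b = b * a) (x : X) :
    ∃ k ∈ pPrimeCore 2 X, ∃ n ∈ normalizer ((T : Subgroup X) : Set X), k * n = x := by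
  haveI : (pPrimeCore 2 X).Normal := PCore.pPrimeCore_normal
  exact mem_sup_of_normal_left.1 (sylow_normalizer_sup T hT ▸ mem_top x)

variable {G : Type u} [Group G] [Finite G] {p : ℕ} {P : Sylow 2 G}

/-- The situation: simple, element orders `1`, primes and `2 p`, one class of order `p` under all
automorphisms, Sylow 2-subgroups of order at least 8. -/
structure Hyp (p : ℕ) (P : Sylow 2 G) : Prop where
  simple : IsSimpleGroup G
  nc : ¬ IsMulCommutative G
  prime : p.Prime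
  odd : p ≠ 2
  ord : ∀ g : G, g ≠ 1 → (orderOf g).Prime ∨ orderOf g = 2 * p
  conj : ∀ g h : G, orderOf g = p → orderOf h = p → ∃ φ : G ≃* G, φ g = h
  ex : ∃ g : G, orderOf g = 2 * p
  big : 8 ≤ Nat.card (P : Subgroup G)

namespace Hyp

variable (H : Hyp p P)
include H

theorem p_odd : Odd p := H.prime.odd_of_ne_two H.odd

theorem orderOf_of_two_pow {g : G} (hg1 : g ≠ 1) {k : ℕ} (hg : orderOf g = 2 ^ k) :
    orderOf g = 2 := by
  rcases H.ord g hg1 with h | h
  · exact (Nat.prime_dvd_prime_iff_eq h Nat.prime_two).1 (h.dvd_of_dvd_pow (dvd_of_eq hg))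
  · refine absurd ?_ H.odd
    exact (Nat.prime_dvd_prime_iff_eq H.prime Nat.prime_two).1
      (H.prime.dvd_of_dvd_pow (Dvd.intro_left 2 (h.symm.trans hg)))

theorem sq {T : Subgroup G} (hT : IsPGroup 2 T) {x : G} (hx : x ∈ T) : x * x = 1 := by
  haveI : Fact (Nat.Prime 2) := ⟨Nat.prime_two⟩
  by_cases h1 : x = 1
  · rw [h1, mul_one]
  obtain ⟨k, hk⟩ := IsPGroup.iff_orderOf.1 hT ⟨x, hx⟩
  rw [Subgroup.orderOf_mk] at hk
  rw [← pow_two, ← H.orderOf_of_two_pow h1 hk, pow_orderOf_eq_one]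

theorem comm {T : Subgroup G} (hT : IsPGroup 2 T) {x y : G} (hx : x ∈ T) (hy : y ∈ T) :
    x * y = y * x := by
  have h := H.sq hT (T.mul_mem hx hy)
  calc x * y = (x * y) * ((y * x) * (y * x)) := by
        rw [H.sq hT (T.mul_mem hy hx), mul_one]
    _ = x * (y * y) * x * (y * x) := by group
    _ = y * x := by rw [H.sq hT hy, mul_one, H.sq hT hx, one_mul]

theorem orderOf_eq_two {a : G} (ha : a ∈ (P : Subgroup G)) (ha1 : a ≠ 1) : orderOf a = 2 :=
  orderOf_eq_prime (by rw [pow_two]; exact H.sq P.2 ha) ha1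

theorem le_cent {a : G} (ha : a ∈ (P : Subgroup G)) :
    (P : Subgroup G) ≤ centralizer ({a} : Set G) :=
  fun _ hx => mem_centralizer_singleton_iff.2 (H.comm P.2 hx ha)

theorem P_le_centralizer : (P : Subgroup G) ≤ centralizer ((P : Subgroup G) : Set G) :=
  fun _ hx => mem_centralizer_iff.2 fun _ hy => H.comm P.2 hy hx

theorem exists_mem : ∃ a ∈ (P : Subgroup G), a ≠ 1 := by
  by_contra h
  push Not at h
  have := H.big
  rw [(eq_bot_iff_forall _).2 h, card_bot] at this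
  omega

/-- Commuting elements of different prime orders have orders `2`, `p`. -/
theorem primes_of_commute {z t : G} {q r : ℕ} (hq : q.Prime) (hr : r.Prime) (hqr : q ≠ r)
    (hz : orderOf z = q) (ht : orderOf t = r) (hc : Commute z t) :
    (q = 2 ∧ r = p) ∨ (q = p ∧ r = 2) := by
  have hcop : Nat.Coprime q r := (Nat.coprime_primes hq hr).2 hqr
  have ho := hc.orderOf_mul_eq_mul_orderOf_of_coprime (by rw [hz, ht]; exact hcop)
  rw [hz, ht] at ho
  have hne : z * t ≠ 1 := fun h => by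
    rw [h, orderOf_one] at ho
    exact hq.one_lt.ne' (Nat.eq_one_of_mul_eq_one_right ho.symm)
  rcases H.ord _ hne with h | h
  · rw [ho] at h
    exact absurd h (Nat.not_prime_mul hq.one_lt.ne' hr.one_lt.ne')
  · rw [ho] at h
    have hd : q ∣ 2 * p := Dvd.intro r h
    rcases hq.dvd_mul.1 hd with h2 | h2
    · obtain rfl := (Nat.prime_dvd_prime_iff_eq hq Nat.prime_two).1 h2
      exact Or.inl ⟨rfl, Nat.eq_of_mul_eq_mul_left two_pos h⟩
    · obtain rfl := (Nat.prime_dvd_prime_iff_eq hq H.prime).1 h2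
      exact Or.inr ⟨rfl, Nat.eq_of_mul_eq_mul_left hq.pos (h.trans (Nat.mul_comm 2 _))⟩

/-- An element of odd order centralizing an element of order `2` has `p`-th power one. -/
theorem pow_eq_one_of_commute {z t : G} (ht : orderOf t = 2) (hc : Commute z t)
    (hz : Odd (orderOf z)) : z ^ p = 1 := by
  by_cases h1 : z = 1
  · rw [h1, one_pow]
  rcases H.ord z h1 with h | h
  · have h2 : orderOf z ≠ 2 := fun e => by rw [e] at hz; exact absurd hz (by decide)
    rcases H.primes_of_commute h Nat.prime_two h2 rfl ht hc with ⟨e, -⟩ | ⟨e, -⟩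
    · exact absurd e h2
    · rw [← e]; exact pow_orderOf_eq_one z
  · rw [h] at hz
    exact absurd hz (Nat.not_odd_iff_even.2 (even_two_mul p))

theorem isSolvable_C {t : G} (ht : t ≠ 1) (ho : orderOf t = 2 ∨ orderOf t = p) :
    Group.IsSolvable (centralizer ({t} : Set G)) := by
  refine S4068.isSolvable_of_two Nat.prime_two H.prime fun q hq hd => ?_
  haveI := Fact.mk hq
  obtain ⟨z, hz⟩ := exists_prime_orderOf_dvd_card' q hd
  rw [← Subgroup.orderOf_coe] at hz
  have hc : Commute (z : G) t := mem_centralizer_singleton_iff.1 z.2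
  by_contra hne
  push Not at hne
  rcases ho with ho | ho
  · rcases H.primes_of_commute hq Nat.prime_two hne.1 hz ho hc with h | h
    · exact hne.1 h.1
    · exact hne.2 h.1
  · rcases H.primes_of_commute hq H.prime hne.2 hz ho hc with h | h
    · exact hne.1 h.1
    · exact hne.2 h.1

/-- An element of `N(P)` of order at most 2 lies in `P`. -/
theorem mem_P {g : G} (hg : g ∈ normalizer ((P : Subgroup G) : Set G)) (h2 : g * g = 1) :
    g ∈ (P : Subgroup G) := by
  by_cases h1 : g = 1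
  · rw [h1]; exact one_mem _
  haveI : Fact (Nat.Prime 2) := ⟨Nat.prime_two⟩
  have hS : IsPGroup 2 (zpowers g) := IsPGroup.of_card (n := 1) (by
    rw [Nat.card_zpowers, orderOf_eq_prime (by rw [pow_two, h2]) h1, pow_one])
  exact ((hS.inf_normalizer_sylow P).le ⟨mem_zpowers g, hg⟩).2

theorem sft : ¬ 2 ∣ Nat.card (W P) ∧
    ∀ a ∈ (P : Subgroup G), a ≠ 1 → W P ⊓ centralizer {a} = O a := by
  haveI : Fact (Nat.Prime 2) := ⟨Nat.prime_two⟩
  have hel : IsElementaryAbelian 2 (P : Subgroup G) :=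
    ⟨⟨⟨fun a b => Subtype.ext (H.comm P.2 a.2 b.2)⟩⟩, fun x hx => by rw [pow_two, H.sq P.2 hx]⟩
  have hθ := S1279.result 2 (P : Subgroup G) hel (le_trans (by norm_num) H.big)
    fun a ha ha1 => H.isSolvable_C ha1 (Or.inl (H.orderOf_eq_two ha ha1))
  exact SSFT.hasSFT G (P : Subgroup G) (fun a ha b hb => H.comm P.2 ha hb) hel.2
    (le_trans (by norm_num) H.big) (fun a => centralizerPPrimeCore 2 a)
    hθ.1.1 hθ.1.2.1 hθ.1.2.2.1 hθ.2 hθ.1.2.2.2

theorem W_odd : Odd (Nat.card (W P)) :=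
  Nat.not_even_iff_odd.1 fun h => H.sft.1 (even_iff_two_dvd.1 h)

theorem O_le_W {a : G} (ha : a ∈ (P : Subgroup G)) (ha1 : a ≠ 1) : O a ≤ W P :=
  le_iSup (fun b : {a : G // a ∈ (P : Subgroup G) ∧ a ≠ 1} => O (b : G)) ⟨a, ha, ha1⟩

theorem N_le_normalizer_W :
    normalizer ((P : Subgroup G) : Set G) ≤ normalizer (W P : Set G) := by
  have key : ∀ n ∈ normalizer ((P : Subgroup G) : Set G), ∀ w ∈ W P, n * w * n⁻¹ ∈ W P := by
    intro n hn w hw
    have h1 : (W P).map (MulAut.conj n).toMonoidHom ≤ W P := by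
      rw [InvolRankOne.W, Subgroup.map_iSup]
      refine iSup_le fun b => le_trans (Signalizer.map_centralizerPPrimeCore (b : G) n) ?_
      exact le_iSup (fun c : {c : G // c ∈ (P : Subgroup G) ∧ c ≠ 1} => O (c : G))
        ⟨n * b * n⁻¹, (mem_normalizer_iff.1 hn b).1 b.2.1,
          fun h => b.2.2 (conj_eq_one_iff.1 h)⟩
    exact h1 ⟨w, hw, rfl⟩
  exact fun n hn => mem_normalizer_iff.2 fun w =>
    ⟨key n hn w, fun h => by simpa [mul_assoc] using key n⁻¹ (inv_mem hn) _ h⟩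

theorem P_le_M : (P : Subgroup G) ≤ M P := le_normalizer.trans le_sup_right

theorem mem_normalizer_of_subtype {X : Subgroup G} (hPX : (P : Subgroup G) ≤ X) {n : X}
    (hn : n ∈ normalizer (((P.subtype hPX : Sylow 2 X) : Subgroup X) : Set X)) :
    (n : G) ∈ normalizer ((P : Subgroup G) : Set G) := by
  refine mem_normalizer_iff.2 fun x => ⟨fun hx => ?_, fun hx => ?_⟩
  · exact (mem_normalizer_iff.1 hn ⟨x, hPX hx⟩).1 hx
  · have hxX : x ∈ X := by
      have := mul_mem (mul_mem (inv_mem n.2) (hPX hx)) n.2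
      simpa [mul_assoc] using this
    exact (mem_normalizer_iff.1 hn ⟨x, hxX⟩).2 hx

theorem exists_decomp_P {X : Subgroup G} [Group.IsSolvable X] (hPX : (P : Subgroup G) ≤ X) {x : G}
    (hx : x ∈ X) : ∃ k ∈ (pPrimeCore 2 X).map X.subtype,
      ∃ n ∈ normalizer ((P : Subgroup G) : Set G), k * n = x := by
  obtain ⟨k, hk, n, hn, he⟩ := exists_decomp (P.subtype hPX)
    (fun a ha b hb => Subtype.ext (H.comm P.2 ha hb)) ⟨x, hx⟩
  exact ⟨k, ⟨k, hk, rfl⟩, n, H.mem_normalizer_of_subtype hPX hn, congrArg Subtype.val he⟩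

theorem C_le_M {a : G} (ha : a ∈ (P : Subgroup G)) (ha1 : a ≠ 1) :
    centralizer ({a} : Set G) ≤ M P := fun x hx => by
  haveI := H.isSolvable_C ha1 (Or.inl (H.orderOf_eq_two ha ha1))
  obtain ⟨k, hk, n, hn, rfl⟩ := H.exists_decomp_P (H.le_cent ha) hx
  exact mul_mem (mem_sup_left (H.O_le_W ha ha1 hk)) (mem_sup_right hn)

theorem W_le_normalizer : M P ≤ normalizer (W P : Set G) :=
  sup_le le_normalizer H.N_le_normalizer_W

/-- An involution of `M` is conjugate in `M` to an element of `P`. -/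
theorem exists_conj_mem {s : G} (hs : s ∈ M P) (hs2 : orderOf s = 2) :
    ∃ m ∈ M P, m * s * m⁻¹ ∈ (P : Subgroup G) ∧ m * s * m⁻¹ ≠ 1 := by
  haveI : Fact (Nat.Prime 2) := ⟨Nat.prime_two⟩
  let P' := P.subtype H.P_le_M
  have hpg : IsPGroup 2 (zpowers (⟨s, hs⟩ : M P)) := IsPGroup.of_card (n := 1) (by
    rw [Nat.card_zpowers, Subgroup.orderOf_mk, hs2, pow_one])
  obtain ⟨Q, hQ⟩ := hpg.exists_le_sylow
  obtain ⟨m, hm⟩ := MulAction.exists_smul_eq (M P) Q P'
  refine ⟨m, m.2, ?_, fun h => ?_⟩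
  · have h1 : (MulAut.conj m) (⟨s, hs⟩ : M P) ∈ ((m • Q : Sylow 2 (M P)) : Subgroup (M P)) :=
      ⟨⟨s, hs⟩, hQ (mem_zpowers _), rfl⟩
    rw [hm] at h1
    exact h1
  · rw [conj_eq_one_iff.1 h, orderOf_one] at hs2
    exact absurd hs2 (by norm_num)

theorem even_card_P : 2 ∣ Nat.card (P : Subgroup G) := by
  obtain ⟨a, ha, ha1⟩ := H.exists_mem
  have h := (P : Subgroup G).orderOf_dvd_natCard ha
  rwa [H.orderOf_eq_two ha ha1] at h

theorem M_ne_top : M P ≠ ⊤ := by
  haveI := H.simple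
  intro hM
  have hWn : (W P).Normal := normalizer_eq_top_iff.1 (top_le_iff.1 (hM ▸ H.W_le_normalizer))
  have hW : W P = ⊥ := hWn.eq_bot_or_eq_top.resolve_right fun h => H.sft.1 (by
    rw [h, card_top]
    exact H.even_card_P.trans (card_subgroup_dvd_card _))
  have hPn : (P : Subgroup G).Normal := normalizer_eq_top_iff.1 (by
    rw [← hM, InvolRankOne.M, hW, bot_sup_eq])
  rcases hPn.eq_bot_or_eq_top with h | h
  · obtain ⟨a, ha, ha1⟩ := H.exists_mem
    exact ha1 (by rwa [h, mem_bot] at ha)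
  · exact H.nc ⟨⟨fun a b => H.comm P.2 (h ▸ mem_top a) (h ▸ mem_top b)⟩⟩

theorem isStronglyEmbedded : IsStronglyEmbedded (M P) := by
  haveI : Fact (Nat.Prime 2) := ⟨Nat.prime_two⟩
  rw [S0223.result (M P) H.M_ne_top
    (even_iff_two_dvd.2 (H.even_card_P.trans (card_dvd_of_le H.P_le_M)))]
  constructor
  · intro t ht ht2
    obtain ⟨m, hm, hmt, hmt1⟩ := H.exists_conj_mem ht ht2
    intro c hc
    have hc' : m * c * m⁻¹ ∈ centralizer ({m * t * m⁻¹} : Set G) := by
      rw [mem_centralizer_singleton_iff] at hc ⊢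
      calc m * c * m⁻¹ * (m * t * m⁻¹) = m * (c * t) * m⁻¹ := by group
        _ = m * (t * c) * m⁻¹ := by rw [hc]
        _ = m * t * m⁻¹ * (m * c * m⁻¹) := by group
    have := mul_mem (mul_mem (inv_mem hm) (H.C_le_M hmt hmt1 hc')) hm
    simpa [mul_assoc] using this
  · intro t ht s hs ht2 hs2 hts
    obtain ⟨m, hm, hmt, -⟩ := H.exists_conj_mem ht ht2
    obtain ⟨n, hn, hns, -⟩ := H.exists_conj_mem hs hs2
    obtain ⟨g, hg⟩ := isConj_iff.1 hts
    have hcomm : IsMulCommutative (P : Subgroup G) :=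
      ⟨⟨fun a b => Subtype.ext (H.comm P.2 a.2 b.2)⟩⟩
    obtain ⟨w, hw, he⟩ := Sylow.conj_eq_normalizer_conj_of_mem P (m * t * m⁻¹)
      (m * g⁻¹ * n⁻¹) hmt (by
        rw [show (m * g⁻¹ * n⁻¹)⁻¹ * (m * t * m⁻¹) * (m * g⁻¹ * n⁻¹) =
          n * (g * t * g⁻¹) * n⁻¹ by group, hg]
        exact hns)
    refine ⟨n⁻¹ * w⁻¹ * m, mul_mem (mul_mem (inv_mem hn) (inv_mem (mem_sup_right hw))) hm, ?_⟩
    rw [show n⁻¹ * w⁻¹ * m * t * (n⁻¹ * w⁻¹ * m)⁻¹ =
      n⁻¹ * (w⁻¹ * (m * t * m⁻¹) * w) * n by group, ← he, ← hg]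
    group

/-- `N(P)` is transitive on the involutions of `P`. -/
theorem transitive {a b : G} (ha : a ∈ (P : Subgroup G)) (ha1 : a ≠ 1)
    (hb : b ∈ (P : Subgroup G)) (hb1 : b ≠ 1) :
    ∃ n ∈ normalizer ((P : Subgroup G) : Set G), n * a * n⁻¹ = b := by
  haveI : Fact (Nat.Prime 2) := ⟨Nat.prime_two⟩
  haveI : IsMulCommutative (P : Subgroup G) := ⟨⟨fun a b => Subtype.ext (H.comm P.2 a.2 b.2)⟩⟩
  obtain ⟨g, hg⟩ := isConj_iff.1 (StrongEmb.isConj_involutions H.isStronglyEmbedded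
    (H.orderOf_eq_two ha ha1) (H.orderOf_eq_two hb hb1))
  obtain ⟨w, hw, he⟩ := Sylow.conj_eq_normalizer_conj_of_mem P a g⁻¹ ha (by rwa [inv_inv, hg])
  rw [inv_inv, hg] at he
  exact ⟨w⁻¹, inv_mem hw, by rw [inv_inv, ← he]⟩

theorem not_isCyclic : ¬ IsCyclic (P : Subgroup G) := fun hc => by
  have h := IsCyclic.exponent_eq_card (α := (P : Subgroup G))
  have h2 : Monoid.exponent (P : Subgroup G) ∣ 2 := Monoid.exponent_dvd_of_forall_pow_eq_one
    fun x => Subtype.ext (by rw [SubmonoidClass.coe_pow, pow_two]; exact H.sq P.2 x.2)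
  have := Nat.le_of_dvd two_pos (h ▸ h2)
  have := H.big
  omega

theorem coprime_of_odd {K : Subgroup G} (hK : Odd (Nat.card K)) :
    (Nat.card (P : Subgroup G)).Coprime (Nat.card K) := by
  haveI : Fact (Nat.Prime 2) := ⟨Nat.prime_two⟩
  obtain ⟨k, hk⟩ := IsPGroup.iff_card.1 P.2
  rw [hk]
  exact Nat.Coprime.pow_left k (Nat.coprime_two_left.2 hK)

theorem W_isPGroup : IsPGroup p (W P) := by
  haveI : Fact (Nat.Prime 2) := ⟨Nat.prime_two⟩
  haveI := Fact.mk H.prime
  haveI : IsMulCommutative (P : Subgroup G) := ⟨⟨fun a b => Subtype.ext (H.comm P.2 a.2 b.2)⟩⟩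
  refine IsPGroup.of_card (Nat.eq_prime_pow_of_unique_prime_dvd Nat.card_pos.ne'
    fun {q} hq hd => ?_)
  haveI := Fact.mk hq
  have hq2 : q ≠ 2 := fun e => H.sft.1 (e ▸ hd)
  obtain ⟨Q, hQ⟩ := Coprime.exists_invariant_sylow (le_normalizer.trans H.N_le_normalizer_W)
    (H.coprime_of_odd H.W_odd)
    (Or.inl (Group.isSolvable_of_comm fun a b => Subtype.ext (H.comm P.2 a.2 b.2))) q
  set Q' := (Q : Subgroup (W P)).map (W P).subtype with hQ'
  have hQW : Q' ≤ W P := map_subtype_le _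
  have hQne : Q' ≠ ⊥ := fun e => by
    rw [hQ', map_eq_bot_iff_of_injective _ (subtype_injective _)] at e
    exact Q.ne_bot_of_dvd_card hd e
  by_contra hqp
  refine hQne (Coprime.eq_of_forall_centralizer_le H.not_isCyclic hQ
    (H.coprime_of_odd (H.W_odd.of_dvd_nat (card_dvd_of_le hQW))) bot_le fun a ha ha1 => ?_).symm
  rintro z ⟨hz, hza⟩
  by_contra hz1
  rw [mem_bot] at hz1
  obtain ⟨k, hk⟩ := IsPGroup.iff_orderOf.1 (Q.2.map (W P).subtype) ⟨z, hz⟩
  rw [Subgroup.orderOf_mk] at hk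
  have h := orderOf_dvd_of_pow_eq_one (H.pow_eq_one_of_commute (H.orderOf_eq_two ha ha1)
    (mem_centralizer_singleton_iff.1 hza) (H.W_odd.of_dvd_nat ((W P).orderOf_dvd_natCard (hQW hz))))
  rw [hk] at h
  rcases k with _ | k
  · rw [pow_zero, orderOf_eq_one_iff] at hk
    exact hz1 hk
  · exact hqp ((Nat.prime_dvd_prime_iff_eq hq H.prime).1 ((dvd_pow_self q k.succ_ne_zero).trans h))

theorem W_inf_P {x : G} (hx : x ∈ W P) (hxP : x ∈ (P : Subgroup G)) : x = 1 := by
  by_contra hx1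
  have h : Odd (orderOf x) := H.W_odd.of_dvd_nat ((W P).orderOf_dvd_natCard hx)
  rw [H.orderOf_eq_two hxP hx1] at h
  exact absurd h (by decide)

/-- An element of `N(P)` fixing only the identity of `P` has prime order different from 2. -/
theorem exists_fpf : ∃ x ∈ normalizer ((P : Subgroup G) : Set G), ∃ s : ℕ, s.Prime ∧ s ≠ 2 ∧
    orderOf x = s ∧ ∀ a ∈ (P : Subgroup G), x * a = a * x → a = 1 := by
  set N := normalizer ((P : Subgroup G) : Set G)
  let Ω := {a : G // a ∈ (P : Subgroup G) ∧ a ≠ 1}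
  letI : MulAction N Ω :=
    { smul := fun n a => ⟨n * a.1 * (n : G)⁻¹, (mem_normalizer_iff.1 n.2 a.1).1 a.2.1,
        fun h => a.2.2 (conj_eq_one_iff.1 h)⟩
      one_smul := fun a => Subtype.ext (show (1 : G) * a.1 * (1 : G)⁻¹ = a.1 by group)
      mul_smul := fun m n a => Subtype.ext
        (show (m * n : G) * a.1 * (m * n : G)⁻¹ = m * (n * a.1 * (n : G)⁻¹) * (m : G)⁻¹ by group) }
  have htr : MulAction.IsPretransitive N Ω := ⟨fun a b => by
    obtain ⟨n, hn, he⟩ := H.transitive a.2.1 a.2.2 b.2.1 b.2.2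
    exact ⟨⟨n, hn⟩, Subtype.ext he⟩⟩
  obtain ⟨u, hu, hu1⟩ := H.exists_mem
  have h2 : 1 < Nat.card Ω := by
    by_contra hle
    haveI : Subsingleton Ω := Finite.card_le_one_iff_subsingleton.1 (by omega)
    have hsub : ((P : Subgroup G) : Set G) ⊆ {1, u} := fun a ha => by
      by_cases ha1 : a = 1
      · exact Or.inl ha1
      · exact Or.inr (congrArg Subtype.val
          (Subsingleton.elim (⟨a, ha, ha1⟩ : Ω) ⟨u, hu, hu1⟩))
    have h3 := (Set.ncard_le_ncard hsub (Set.toFinite _)).trans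
      ((Set.ncard_insert_le _ _).trans (Nat.add_le_add_right (Set.ncard_singleton u).le 1))
    rw [← Nat.card_coe_set_eq] at h3
    have h8 : 8 ≤ Nat.card ((P : Subgroup G) : Set G) := H.big
    omega
  obtain ⟨t, ht⟩ := Perm.InvDer.exists_derangement htr h2
  have hfix : ∀ a ∈ (P : Subgroup G), (t : G) * a = a * t → a = 1 := fun a ha hc => by
    by_contra ha1
    exact ht ⟨a, ha, ha1⟩ (Subtype.ext (mul_inv_eq_iff_eq_mul.2 hc))
  have ht1 : (t : G) ≠ 1 := fun e => hu1 (hfix u hu (by rw [e, one_mul, mul_one]))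
  rcases H.ord _ ht1 with h | h
  · refine ⟨t, t.2, _, h, fun e => ?_, rfl, hfix⟩
    have htP := H.mem_P t.2 (by rw [← pow_two, ← e, pow_orderOf_eq_one])
    exact ht1 (hfix t htP rfl)
  · exfalso
    have hi : orderOf ((t : G) ^ p) = 2 := by
      rw [orderOf_pow_of_dvd H.prime.ne_zero (h ▸ dvd_mul_left p 2), h,
        Nat.mul_div_cancel _ H.prime.pos]
    have htP := H.mem_P (pow_mem t.2 p) (StrongEmb.mul_self_of_orderOf hi)
    rw [hfix _ htP (Commute.self_pow _ p).eq, orderOf_one] at hi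
    exact absurd hi (by norm_num)

theorem W_inf_N {w : G} (hw : w ∈ W P) (hwN : w ∈ normalizer ((P : Subgroup G) : Set G)) :
    w ∈ centralizer ((P : Subgroup G) : Set G) := by
  refine mem_centralizer_iff.2 fun x hx => ?_
  have h1 : x * w * x⁻¹ * w⁻¹ ∈ W P :=
    mul_mem ((mem_normalizer_iff.1 (H.N_le_normalizer_W (le_normalizer hx)) w).1 hw) (inv_mem hw)
  have h2 : x * w * x⁻¹ * w⁻¹ ∈ (P : Subgroup G) := by
    rw [show x * w * x⁻¹ * w⁻¹ = x * (w * x⁻¹ * w⁻¹) by group]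
    exact mul_mem hx ((mem_normalizer_iff.1 hwN _).1 (inv_mem hx))
  have h := H.W_inf_P h1 h2
  rwa [mul_inv_eq_one, mul_inv_eq_iff_eq_mul] at h

theorem P_le_centralizer_W : (P : Subgroup G) ≤ centralizer (W P : Set G) := by
  haveI := Fact.mk H.prime
  obtain ⟨x, hxN, s, hs, hs2, hxs, hfix⟩ := H.exists_fpf
  have hxP : ∀ a ∈ (P : Subgroup G), x * a * x⁻¹ ∈ (P : Subgroup G) :=
    fun a ha => (mem_normalizer_iff.1 hxN a).1 ha
  have hbx : ∀ b ∈ (P : Subgroup G), (b * x) ^ s = 1 := fun b hb => by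
    have hc : (b * x) ^ s ∈ (P : Subgroup G) := by
      have := pow_mul_inv_mem hxP hb s
      rwa [← hxs, pow_orderOf_eq_one, inv_one, mul_one, hxs] at this
    refine hfix _ hc ?_
    have h1 := (Commute.self_pow (b * x) s).eq
    have h2 := H.comm P.2 hb hc
    refine mul_left_cancel (a := b) ?_
    rw [← mul_assoc, h1, ← mul_assoc, ← mul_assoc, h2]
  refine le_centralizer_of_pow hs H.W_isPGroup (H.coprime_of_odd H.W_odd)
    (le_normalizer.trans H.N_le_normalizer_W) (H.N_le_normalizer_W hxN) hxP hbx fun w hw b hb => ?_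
  set y := b * x
  have hyN : y ∈ normalizer ((P : Subgroup G) : Set G) := mul_mem (le_normalizer hb) hxN
  have hyW : y ∉ W P := fun hy => by
    obtain ⟨a, ha, ha1⟩ := H.exists_mem
    refine ha1 (hfix a ha (mul_left_cancel (a := b) ?_))
    have h := mem_centralizer_iff.1 (H.W_inf_N hy hyN) a ha
    rw [← mul_assoc, ← mul_assoc, H.comm P.2 hb ha, mul_assoc a b x]
    exact h.symm
  have hy : orderOf y = s := haveI := Fact.mk hs; orderOf_eq_prime (hbx b hb)
    fun e => hyW (e ▸ one_mem _)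
  have hmem : ∀ n, (w * y) ^ n * (y ^ n)⁻¹ ∈ W P := pow_mul_inv_mem
    (fun a ha => (mem_normalizer_iff.1 (H.N_le_normalizer_W hyN) a).1 ha) hw
  have hdvd : s ∣ orderOf (w * y) := by
    by_contra hnd
    refine hyW ?_
    have h := inv_mem (hmem (orderOf (w * y)))
    rw [pow_orderOf_eq_one, one_mul, inv_inv] at h
    obtain ⟨j, hj⟩ := exists_pow_eq_self_of_coprime (x := y) (n := orderOf (w * y))
      (by rw [hy]; exact (hs.coprime_iff_not_dvd.2 hnd).symm)
    exact hj ▸ pow_mem h j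
  by_cases h1 : w * y = 1
  · rw [h1, one_pow]
  rcases H.ord _ h1 with h | h
  · rw [(Nat.prime_dvd_prime_iff_eq hs h).1 hdvd, pow_orderOf_eq_one]
  · rw [h] at hdvd
    have hsp : s = p := (Nat.prime_dvd_prime_iff_eq hs H.prime).1
      ((hs.dvd_mul.1 hdvd).resolve_left fun e => hs2 ((Nat.prime_dvd_prime_iff_eq hs Nat.prime_two).1 e))
    have hz : (w * y) ^ s ∈ W P := by
      have := hmem s
      rwa [show y ^ s = 1 from hbx b hb, inv_one, mul_one] at this
    refine orderOf_eq_one_iff.1 (Nat.eq_one_of_dvd_coprimes (Nat.coprime_two_left.2 H.W_odd) ?_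
      ((W P).orderOf_dvd_natCard hz))
    refine orderOf_dvd_of_pow_eq_one ?_
    rw [← pow_mul, hsp, Nat.mul_comm, ← h, pow_orderOf_eq_one]

theorem W_le_centralizer : W P ≤ centralizer ((P : Subgroup G) : Set G) :=
  le_centralizer_iff.1 H.P_le_centralizer_W

theorem W_le_N : W P ≤ normalizer ((P : Subgroup G) : Set G) := fun w hw =>
  centralizer_le_normalizer _ (H.W_le_centralizer hw)

theorem M_eq : M P = normalizer ((P : Subgroup G) : Set G) := sup_eq_right.2 H.W_le_N

theorem C_le_N {a : G} (ha : a ∈ (P : Subgroup G)) (ha1 : a ≠ 1) :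
    centralizer ({a} : Set G) ≤ normalizer ((P : Subgroup G) : Set G) :=
  H.M_eq ▸ H.C_le_M ha ha1

/-- A nontrivial element of `W` has order `p`, and its centralizer normalizes `P`. -/
theorem orderOf_W {g : G} (hg : g ∈ W P) (hg1 : g ≠ 1) : orderOf g = p := by
  obtain ⟨a, ha, ha1⟩ := H.exists_mem
  haveI := Fact.mk H.prime
  refine orderOf_eq_prime (H.pow_eq_one_of_commute (H.orderOf_eq_two ha ha1) ?_
    (H.W_odd.of_dvd_nat ((W P).orderOf_dvd_natCard hg))) hg1
  exact (mem_centralizer_iff.1 (H.W_le_centralizer hg) a ha).symm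

theorem C_le_N_of_mem_W {g : G} (hg : g ∈ W P) (hg1 : g ≠ 1) :
    centralizer ({g} : Set G) ≤ normalizer ((P : Subgroup G) : Set G) := by
  haveI : Fact (Nat.Prime 2) := ⟨Nat.prime_two⟩
  haveI : IsMulCommutative (P : Subgroup G) := ⟨⟨fun a b => Subtype.ext (H.comm P.2 a.2 b.2)⟩⟩
  haveI := H.isSolvable_C hg1 (Or.inr (H.orderOf_W hg hg1))
  set X := centralizer ({g} : Set G)
  have hPX : (P : Subgroup G) ≤ X := fun a ha =>
    mem_centralizer_singleton_iff.2 (mem_centralizer_iff.1 (H.W_le_centralizer hg) a ha)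
  set K := (pPrimeCore 2 X).map X.subtype with hK
  have hKodd : Odd (Nat.card K) := by
    rw [hK, card_map_of_injective (subtype_injective _)]
    exact Nat.coprime_two_right.1 PCore.coprime_card_pPrimeCore
  haveI : (pPrimeCore 2 X).Normal := PCore.pPrimeCore_normal
  have hXK : X ≤ normalizer (K : Set G) := by
    have := le_normalizer_map (H := pPrimeCore 2 X) X.subtype
    rwa [normalizer_eq_top, ← MonoidHom.range_eq_map, range_subtype] at this
  have hKN : K ≤ normalizer ((P : Subgroup G) : Set G) := by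
    rw [← Coprime.eq_of_forall_centralizer_le H.not_isCyclic (hPX.trans hXK)
      (H.coprime_of_odd hKodd) (inf_le_left : K ⊓ normalizer ((P : Subgroup G) : Set G) ≤ K)
      fun a ha ha1 => le_inf inf_le_left (inf_le_right.trans (H.C_le_N ha ha1))]
    exact inf_le_right
  intro x hx
  obtain ⟨k, hk, n, hn, rfl⟩ := H.exists_decomp_P hPX hx
  exact mul_mem (hKN hk) hn

end Hyp

end Cfsg.Agent.TwoPOrders
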