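import Cfsg.Agent.Lib.TwoPOrders.Basic
import Cfsg.Agent.Lib.Bender.Counting
import Cfsg.Agent.Lib.CIT.CNReduce
import Cfsg.Agent.Lib.SchmidtUniversal.Ext

/-!
# A nontrivial signalizer gives a CN-group

All elements of order `p` are automorphic to elements of `W`, so their centralizers contain a Sylow
2-subgroup.  Hence `C(u) = P × W` for the involutions, two conjugates of `W` meet no common point
stabilizer, and all centralizers are nilpotent, against an element of order `2 p`.
-/

set_option autoImplicit false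
set_option linter.style.haveILetI false
set_option linter.unusedSectionVars false

namespace Cfsg.Agent.TwoPOrders

open Cfsg Subgroup
open Cfsg.Agent.InvolRankOne (O W M)
open Cfsg.Agent.Involution Cfsg.Agent.Bender

universe u

variable {G : Type u} [Group G] [Finite G] {p : ℕ} {P : Sylow 2 G}

namespace Hyp

variable (H : Hyp p P)
include H

/-- `c` centralizes `P` if it normalizes it and its powers of order `p` centralize it. -/
theorem mem_centralizer_P {c : G} (hc : c ∈ normalizer ((P : Subgroup G) : Set G))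
    (hq : ∀ q, q.Prime → orderOf c = q → q = 2 ∨ q = p)
    (hp : ∀ k, orderOf (c ^ k) = p → c ^ k ∈ centralizer ((P : Subgroup G) : Set G)) :
    c ∈ centralizer ((P : Subgroup G) : Set G) := by
  by_cases h1 : c = 1
  · rw [h1]; exact one_mem _
  rcases H.ord c h1 with h | h
  · rcases hq _ h rfl with e | e
    · exact H.P_le_centralizer (H.mem_P hc (by rw [← pow_two, ← e, pow_orderOf_eq_one]))
    · have := hp 1 (by rw [pow_one, e])
      rwa [pow_one] at this
  · obtain ⟨j, hj⟩ := H.p_odd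
    have hi : orderOf (c ^ p) = 2 := by
      rw [orderOf_pow_of_dvd H.prime.ne_zero (h ▸ dvd_mul_left p 2), h,
        Nat.mul_div_cancel _ H.prime.pos]
    have h2 : orderOf (c ^ 2) = p := by
      rw [orderOf_pow_of_dvd two_ne_zero (h ▸ dvd_mul_right 2 p), h,
        Nat.mul_div_cancel_left _ two_pos]
    have hcp := H.P_le_centralizer (H.mem_P (pow_mem hc p) (StrongEmb.mul_self_of_orderOf hi))
    rw [show c = c ^ p * ((c ^ 2) ^ j)⁻¹ by
      rw [← pow_mul, eq_mul_inv_iff_mul_eq, ← pow_succ', ← hj]]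
    exact mul_mem hcp (inv_mem (pow_mem (hp 2 h2) j))

variable (hW : W P ≠ ⊥)
include hW

theorem exists_W : ∃ g ∈ W P, g ≠ 1 := by
  by_contra h
  push Not at h
  exact hW ((eq_bot_iff_forall _).2 h)

/-- Every element of order `p` centralizing an involution of `P` centralizes `P`. -/
theorem p_mem_centralizer {u c : G} (hu : u ∈ (P : Subgroup G)) (hu1 : u ≠ 1)
    (hc : c ∈ centralizer ({u} : Set G)) (hcp : orderOf c = p) :
    c ∈ centralizer ((P : Subgroup G) : Set G) := by
  obtain ⟨g, hg, hg1⟩ := H.exists_W hW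
  obtain ⟨φ, rfl⟩ := H.conj g c (H.orderOf_W hg hg1) hcp
  have hu2 := H.orderOf_eq_two hu hu1
  have hu' : φ.symm u ∈ (P : Subgroup G) := by
    refine H.mem_P (H.C_le_N_of_mem_W hg hg1 ?_) ?_
    · rw [mem_centralizer_singleton_iff] at hc ⊢
      apply φ.injective
      simp only [map_mul, MulEquiv.apply_symm_apply]
      exact hc.symm
    · rw [← map_mul, StrongEmb.mul_self_of_orderOf hu2, map_one]
  set Q := (P : Subgroup G).map φ.toMonoidHom with hQ
  have hle : Q ≤ (P : Subgroup G) := by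
    rintro _ ⟨a, ha, rfl⟩
    refine H.mem_P (H.C_le_N hu hu1 (mem_centralizer_singleton_iff.2 ?_)) ?_
    · show φ a * u = u * φ a
      rw [← φ.apply_symm_apply u, ← map_mul, ← map_mul, H.comm P.2 ha hu']
    · show φ a * φ a = 1
      rw [← map_mul, H.sq P.2 ha, map_one]
  have heq : Q = (P : Subgroup G) := eq_of_le_of_card_ge hle
    (card_map_of_injective φ.injective).ge
  refine mem_centralizer_iff.2 fun a ha => ?_
  obtain ⟨a', ha', rfl⟩ := (heq.symm ▸ ha : a ∈ Q)
  show φ a' * φ g = φ g * φ a'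
  rw [← map_mul, ← map_mul, mem_centralizer_iff.1 (H.W_le_centralizer hg) a' ha']

theorem C_le_centralizer {u : G} (hu : u ∈ (P : Subgroup G)) (hu1 : u ≠ 1) :
    centralizer ({u} : Set G) ≤ centralizer ((P : Subgroup G) : Set G) := fun c hc => by
  refine H.mem_centralizer_P (H.C_le_N hu hu1 hc) (fun q hq hcq => ?_)
    fun k hk => H.p_mem_centralizer hW hu hu1 (pow_mem hc k) hk
  by_contra hne
  push Not at hne
  rcases H.primes_of_commute hq Nat.prime_two hne.1 hcq (H.orderOf_eq_two hu hu1)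
    (mem_centralizer_singleton_iff.1 hc) with h | h
  exacts [hne.1 h.1, hne.2 h.1]

theorem setup : InvolRankOne.Setup P :=
  ⟨fun _ hx => H.sq P.2 hx, H.big, fun _ _ _ hx hx1 hgx =>
    H.C_le_centralizer hW hx hx1 (mem_centralizer_singleton_iff.2 hgx)⟩

theorem mem_W_of_odd {c : G} (hc : c ∈ centralizer ((P : Subgroup G) : Set G))
    (ho : Odd (orderOf c)) : c ∈ W P := by
  obtain ⟨a, ha, ha1⟩ := H.exists_mem
  exact H.O_le_W ha ha1 (((H.setup hW).mem_O_iff ha ha1).2
    ⟨mem_centralizer_singleton_iff.2 (mem_centralizer_iff.1 hc a ha).symm, ho⟩)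

theorem C_W_le_centralizer {g : G} (hg : g ∈ W P) (hg1 : g ≠ 1) :
    centralizer ({g} : Set G) ≤ centralizer ((P : Subgroup G) : Set G) := fun c₀ hc₀ => by
  haveI := Fact.mk H.prime
  have hgp := H.orderOf_W hg hg1
  refine H.mem_centralizer_P (H.C_le_N_of_mem_W hg hg1 hc₀) (fun q hq hcq => ?_) fun k hk => ?_
  · by_contra hne
    push Not at hne
    rcases H.primes_of_commute hq H.prime hne.2 hcq hgp (mem_centralizer_singleton_iff.1 hc₀)
      with h | h
    exacts [hne.1 h.1, hne.2 h.1]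
  generalize hcdef : c₀ ^ k = c at hk ⊢
  have hcg : c ∈ centralizer ({g} : Set G) := hcdef ▸ pow_mem hc₀ k
  by_contra hcP
  haveI : Fact (Nat.Prime 2) := ⟨Nat.prime_two⟩
  obtain ⟨φ, hφ⟩ := H.conj g c hgp hk
  have hQc : ∀ a ∈ (P : Subgroup G), φ a * c = c * φ a := fun a ha => by
    rw [← hφ, ← map_mul, ← map_mul, mem_centralizer_iff.1 (H.W_le_centralizer hg) a ha]
  let Q : Sylow 2 G := Sylow.ofCard ((P : Subgroup G).map φ.toMonoidHom)
    (by rw [card_map_of_injective φ.injective, P.card_eq_multiplicity])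
  obtain ⟨h, hh⟩ := MulAction.exists_smul_eq G P Q
  have hconj : ∀ a ∈ (P : Subgroup G), h * a * h⁻¹ * c = c * (h * a * h⁻¹) := fun a ha => by
    have hm : MulAut.conj h a ∈ ((h • P : Sylow 2 G) : Subgroup G) := ⟨a, ha, rfl⟩
    rw [hh] at hm
    obtain ⟨b, hb, hba⟩ := hm
    rw [show h * a * h⁻¹ = φ b from hba.symm]
    exact hQc b hb
  have hc' : h⁻¹ * c * h ∈ W P := by
    refine H.mem_W_of_odd hW (mem_centralizer_iff.2 fun a ha => ?_) ?_
    · calc a * (h⁻¹ * c * h) = h⁻¹ * (h * a * h⁻¹ * c) * h := by group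
        _ = h⁻¹ * (c * (h * a * h⁻¹)) * h := by rw [hconj a ha]
        _ = h⁻¹ * c * h * a := by group
    · have := StrongEmb.orderOf_conj' h⁻¹ c
      rw [inv_inv] at this
      rw [this, hk]
      exact H.p_odd
  have hc'1 : h⁻¹ * c * h ≠ 1 := fun e => H.prime.ne_one (by
    rw [← hk, ← StrongEmb.orderOf_conj' h⁻¹ c, inv_inv, e, orderOf_one])
  have hgh : h⁻¹ * g * h ∈ normalizer ((P : Subgroup G) : Set G) := by
    refine H.C_le_N_of_mem_W hc' hc'1 (mem_centralizer_singleton_iff.2 ?_)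
    calc h⁻¹ * g * h * (h⁻¹ * c * h) = h⁻¹ * (g * c) * h := by group
      _ = h⁻¹ * (c * g) * h := by rw [← mem_centralizer_singleton_iff.1 hcg]
      _ = h⁻¹ * c * h * (h⁻¹ * g * h) := by group
  have hhM : h ∉ M P := fun hh' => by
    rw [H.M_eq] at hh'
    refine hcP (mem_centralizer_iff.2 fun a ha => ?_)
    have := hconj _ ((mem_normalizer_iff.1 (inv_mem hh') a).1 ha)
    rwa [inv_inv, show h * (h⁻¹ * a * h) * h⁻¹ = a by group] at this
  have hSE := H.isStronglyEmbedded
  set a : G ⧸ M P := ((1 : G) : G ⧸ M P) with hadef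
  set b : G ⧸ M P := (h : G ⧸ M P) with hbdef
  have hab : a ≠ b := fun e => hhM (by simpa [hadef, hbdef, QuotientGroup.eq] using e)
  have hstab : ∀ x : G, x • a = a ↔ x ∈ M P := fun x => by
    rw [hadef, smul_coe_eq_self_iff]
    simp
  obtain ⟨e₀, he₀⟩ := exists_fixInv hSE a
  obtain ⟨v₀, hv₀⟩ := exists_fixInv hSE b
  obtain ⟨v, hv2, hva⟩ : ∃ v, v ∈ swapInv a b := ⟨_, (middle_spec hSE he₀ hv₀ hab).1⟩
  have hvb : v • b = a := by rw [← hva, smul_smul_self hv2]
  have hvv := StrongEmb.mul_self_of_orderOf hv2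
  have hvi := StrongEmb.inv_eq_of_orderOf hv2
  have hvM : v ∉ M P := fun hm => hab ((hstab v).2 hm ▸ hva)
  have hga : g • a = a := (hstab g).2 (H.M_eq.symm ▸ H.W_le_N hg)
  have hgb : g • b = b := by
    rw [hbdef, smul_coe_eq_self_iff, H.M_eq]
    exact hgh
  -- an element of `W` is not moved by `v` into `W`
  have hTI : ∀ w ∈ W P, v * w * v ∈ W P → w = 1 := fun w hw hw' => by
    by_contra hw1
    have hw'1 : v * w * v ≠ 1 := fun e => hw1 (by
      calc w = (v * v) * w * (v * v) := by rw [hvv, one_mul, mul_one]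
        _ = v * (v * w * v) * v := by group
        _ = 1 := by rw [e, mul_one, hvv])
    have key : ∀ a ∈ (P : Subgroup G), v * a * v ∈ (P : Subgroup G) := fun a ha => by
      refine H.mem_P (H.C_le_N_of_mem_W hw' hw'1 (mem_centralizer_singleton_iff.2 ?_)) ?_
      · calc v * a * v * (v * w * v) = v * (a * (v * v) * w) * v := by group
          _ = v * (w * (v * v) * a) * v := by
            rw [hvv, mul_one, mul_one, mem_centralizer_iff.1 (H.W_le_centralizer hw) a ha]
          _ = v * w * v * (v * a * v) := by group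
      · calc v * a * v * (v * a * v) = v * (a * (v * v) * a) * v := by group
          _ = 1 := by rw [hvv, mul_one, H.sq P.2 ha, mul_one, hvv]
    refine hvM (H.M_eq.symm ▸ mem_normalizer_iff.2 fun a => ⟨fun ha => ?_, fun ha => ?_⟩)
    · rw [hvi]; exact key a ha
    · rw [hvi] at ha
      have := key _ ha
      rwa [show v * (v * a * v) * v = (v * v) * a * (v * v) by group, hvv, one_mul, mul_one] at this
  set g₂ := v * g * v with hg2def
  have hg2M : g₂ ∈ M P := (hstab _).1 (by rw [hg2def, mul_smul, mul_smul, hva, hgb, hvb])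
  have hvgv : v * g₂ * v = g := by
    rw [hg2def, show v * (v * g * v) * v = (v * v) * g * (v * v) by group, hvv, one_mul, mul_one]
  have hgM : g ∈ M P := (hstab g).1 hga
  have hcomm : g * g₂ = g₂ * g := by
    have hk1 : g * g₂ * g⁻¹ * g₂⁻¹ ∈ W P := by
      rw [show g * g₂ * g⁻¹ * g₂⁻¹ = g * (g₂ * g⁻¹ * g₂⁻¹) by group]
      exact mul_mem hg ((mem_normalizer_iff.1 (H.W_le_normalizer hg2M) _).1 (inv_mem hg))
    have hk2 : v * (g * g₂ * g⁻¹ * g₂⁻¹) * v ∈ W P := by
      have e : v * (g * g₂ * g⁻¹ * g₂⁻¹) * v =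
          (v * g * v) * (v * g₂ * v) * (v * g * v)⁻¹ * (v * g₂ * v)⁻¹ := by
        simp only [mul_inv_rev, hvi, mul_assoc]
        simp [← mul_assoc v v, hvv]
      rw [e, hvgv, ← hg2def, show g₂ * g * g₂⁻¹ * g⁻¹ = (g * g₂ * g⁻¹ * g₂⁻¹)⁻¹ by group]
      exact inv_mem hk1
    have := hTI _ hk1 hk2
    rwa [mul_inv_eq_one, mul_inv_eq_iff_eq_mul] at this
  have hg2ne : g₂ ∉ W P := fun h2 => hg1 (hTI g hg h2)
  have hg2p : g₂ ^ p = 1 := by
    rw [hg2def, ← orderOf_dvd_iff_pow_eq_one]
    nth_rw 2 [← hvi]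
    rw [StrongEmb.orderOf_conj', hgp]
  have hgp' : g ^ p = 1 := by rw [← hgp, pow_orderOf_eq_one]
  set d := g * g₂ with hddef
  have hd1 : d ≠ 1 := fun e => hg2ne (eq_inv_of_mul_eq_one_right e ▸ inv_mem hg)
  have hdp : orderOf d = p := orderOf_eq_prime
    (by rw [hddef, Commute.mul_pow hcomm, hgp', hg2p, one_mul]) hd1
  have hdv : v * d = d * v := by
    have : v * d * v = d := by
      rw [hddef, show v * (g * g₂) * v = v * g * ((v * v) * g₂) * v by rw [hvv, one_mul]; group,
        show v * g * ((v * v) * g₂) * v = (v * g * v) * (v * g₂ * v) by group, hvgv, ← hg2def]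
      exact hcomm.symm
    calc v * d = v * d * (v * v) := by rw [hvv, mul_one]
      _ = v * d * v * v := by group
      _ = d * v := by rw [this]
  obtain ⟨u, hu, hu1⟩ := H.exists_mem
  obtain ⟨k', hk'⟩ := isConj_iff.1
    (StrongEmb.isConj_involutions hSE hv2 (H.orderOf_eq_two hu hu1))
  let c' := MulAut.conj k'
  have hvu : c' v = u := hk'
  have hdW : c' d ∈ W P := by
    refine H.mem_W_of_odd hW (H.C_le_centralizer hW hu hu1 (mem_centralizer_singleton_iff.2 ?_))
      (by rw [c'.orderOf_eq, hdp]; exact H.p_odd)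
    rw [← hvu, ← map_mul, ← map_mul, hdv]
  have hd'1 : c' d ≠ 1 := fun e => hd1 (c'.injective (e.trans (map_one c').symm))
  have hgN : c' g ∈ normalizer ((P : Subgroup G) : Set G) := by
    refine H.C_le_N_of_mem_W hdW hd'1 (mem_centralizer_singleton_iff.2 ?_)
    rw [← map_mul, ← map_mul, mul_assoc g g₂ g, ← hcomm]
  have he : c' (g₂ * g⁻¹) ∈ (P : Subgroup G) := by
    rw [show g₂ * g⁻¹ = v * (g * v⁻¹ * g⁻¹) by rw [hg2def, hvi]; group, map_mul, map_mul, map_mul,
      map_inv, map_inv, hvu]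
    exact mul_mem hu ((mem_normalizer_iff.1 hgN _).1 (inv_mem hu))
  have he1 : c' (g₂ * g⁻¹) = 1 := by
    refine orderOf_eq_one_iff.1 (Nat.eq_one_of_dvd_coprimes (Nat.coprime_two_left.2 H.p_odd)
      (orderOf_dvd_of_pow_eq_one (by rw [pow_two]; exact H.sq P.2 he))
      (orderOf_dvd_of_pow_eq_one ?_))
    rw [← map_pow, Commute.mul_pow (Commute.inv_right (show Commute g₂ g from hcomm.symm)), hg2p,
      one_mul, inv_pow, hgp', inv_one, map_one]
  refine hg2ne ?_
  rw [mul_inv_eq_one.1 (c'.injective (he1.trans (map_one c').symm))]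
  exact hg

theorem centralizer_le_sup : centralizer ((P : Subgroup G) : Set G) ≤ (P : Subgroup G) ⊔ W P := by
  intro c hc
  obtain ⟨a, ha, ha1⟩ := H.exists_mem
  obtain ⟨y, hy, e, he, rfl⟩ := (H.setup hW).exists_decomp ha ha1
    (mem_centralizer_singleton_iff.2 (mem_centralizer_iff.1 hc a ha).symm)
  exact mul_mem (mem_sup_right (H.O_le_W ha ha1 hy)) (mem_sup_left he)

theorem isNilpotent_centralizer :
    Group.IsNilpotent (centralizer ((P : Subgroup G) : Set G)) := by
  haveI : Fact (Nat.Prime 2) := ⟨Nat.prime_two⟩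
  haveI := Fact.mk H.prime
  haveI : Group.IsNilpotent (P : Subgroup G) := P.2.isNilpotent
  haveI : Group.IsNilpotent (W P) := H.W_isPGroup.isNilpotent
  haveI := SchmidtUniversal.isNilpotent_sup_of_commute (H := (P : Subgroup G)) (L := W P)
    fun a ha b hb => mem_centralizer_iff.1 (H.W_le_centralizer hb) a ha
  exact OddOrder.CN.isNilpotent_of_le (H.centralizer_le_sup hW) inferInstance

theorem isNilpotent_C_two_or_p {g : G} (hg : orderOf g = 2 ∨ orderOf g = p) :
    Group.IsNilpotent (centralizer ({g} : Set G)) := by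
  obtain ⟨g₀, hg₀, hφ⟩ : ∃ g₀, Group.IsNilpotent (centralizer ({g₀} : Set G)) ∧
      ∃ φ : G ≃* G, φ g = g₀ := by
    rcases hg with hg | hg
    · obtain ⟨u, hu, hu1⟩ := H.exists_mem
      obtain ⟨k, hk⟩ := isConj_iff.1 (StrongEmb.isConj_involutions H.isStronglyEmbedded hg
        (H.orderOf_eq_two hu hu1))
      exact ⟨u, OddOrder.CN.isNilpotent_of_le (H.C_le_centralizer hW hu hu1)
        (H.isNilpotent_centralizer hW), MulAut.conj k, hk⟩
    · obtain ⟨w, hw, hw1⟩ := H.exists_W hW
      exact ⟨w, OddOrder.CN.isNilpotent_of_le (H.C_W_le_centralizer hW hw hw1)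
        (H.isNilpotent_centralizer hW), H.conj g w hg (H.orderOf_W hw hw1)⟩
  obtain ⟨φ, rfl⟩ := hφ
  haveI := hg₀
  have hle : (centralizer ({g} : Set G)).map φ.toMonoidHom ≤ centralizer ({φ g} : Set G) := by
    rintro _ ⟨x, hx, rfl⟩
    rw [SetLike.mem_coe] at hx; rw [mem_centralizer_singleton_iff] at hx ⊢
    show φ x * φ g = φ g * φ x
    rw [← map_mul, hx, map_mul]
  haveI := OddOrder.CN.isNilpotent_of_le hle hg₀
  exact Group.nilpotent_of_mulEquiv
    ((centralizer ({g} : Set G)).equivMapOfInjective φ.toMonoidHom φ.injective).symm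

theorem isCN : IsCNGroup G := by
  intro g hg1
  rcases H.ord g hg1 with h | h
  · by_cases h' : orderOf g = 2 ∨ orderOf g = p
    · exact H.isNilpotent_C_two_or_p hW h'
    push Not at h'
    haveI := Fact.mk h
    refine (IsPGroup.of_card (p := orderOf g) (Nat.eq_prime_pow_of_unique_prime_dvd
      Nat.card_pos.ne' fun {q} hq hd => ?_)).isNilpotent
    haveI := Fact.mk hq
    obtain ⟨z, hz⟩ := exists_prime_orderOf_dvd_card' q hd
    rw [← Subgroup.orderOf_coe] at hz
    by_contra hne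
    rcases H.primes_of_commute hq h hne hz rfl (mem_centralizer_singleton_iff.1 z.2) with e | e
    exacts [h'.2 e.2, h'.1 e.2]
  · refine OddOrder.CN.isNilpotent_of_le (B := centralizer ({g ^ 2} : Set G)) (fun x hx => ?_)
      (H.isNilpotent_C_two_or_p hW (Or.inr ?_))
    · exact mem_centralizer_singleton_iff.2
        (Commute.pow_right (mem_centralizer_singleton_iff.1 hx) 2).eq
    · rw [orderOf_pow_of_dvd two_ne_zero (h ▸ dvd_mul_right 2 p), h,
        Nat.mul_div_cancel_left _ two_pos]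

end Hyp

theorem Hyp.not_isCIT (H : Hyp p P) : ¬ CIT.IsCIT G := fun hG => by
  obtain ⟨x, hx⟩ := H.ex
  have h2 : orderOf (x ^ p) = 2 := by
    rw [orderOf_pow_of_dvd H.prime.ne_zero (hx ▸ dvd_mul_left p 2), hx,
      Nat.mul_div_cancel _ H.prime.pos]
  have hp : orderOf (x ^ 2) = p := by
    rw [orderOf_pow_of_dvd two_ne_zero (hx ▸ dvd_mul_right 2 p), hx,
      Nat.mul_div_cancel_left _ two_pos]
  have h := CIT.eq_one_of_commute hG (by rw [hp]; exact H.p_odd) h2
    ((Commute.refl x).pow_pow 2 p)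
  rw [h, orderOf_one] at hp
  exact H.prime.ne_one hp.symm

theorem Hyp.W_eq_bot (H : Hyp p P) : W P = ⊥ := by
  by_contra hW
  haveI := H.simple
  refine H.not_isCIT (CIT.isCIT_of_isCN ?_ (H.isCN hW))
  by_contra h
  push Not at h
  exact H.nc ⟨⟨fun a b => h a b⟩⟩

end Cfsg.Agent.TwoPOrders
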