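import Cfsg.Agent.Lib.Coprime.Commutator
import Cfsg.Agent.Lib.PGroup.Frattini
import Mathlib.GroupTheory.Abelianization.Defs
import Mathlib.GroupTheory.Subgroup.Centralizer

/-!
# A trace argument

If every element of a coset `A x` of an automorphism group has prime order `t` and trace zero, then
`A` acts trivially: summed over the coset, the trace of `(b x)^i`, `0 < i < t`, is `S x^i` with
`S` the sum over `A`.
-/

set_option autoImplicit false

namespace Cfsg.Agent.TwoPOrders

open Subgroup Finset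

variable {G : Type*} [Group G]

theorem pow_mul_inv_mem {A : Subgroup G} {x : G} (hxA : ∀ a ∈ A, x * a * x⁻¹ ∈ A) {b : G}
    (hb : b ∈ A) : ∀ n : ℕ, (b * x) ^ n * (x ^ n)⁻¹ ∈ A
  | 0 => by simp
  | n + 1 => by
    rw [show (b * x) ^ (n + 1) * (x ^ (n + 1))⁻¹ = b * (x * ((b * x) ^ n * (x ^ n)⁻¹) * x⁻¹) by
      rw [pow_succ', pow_succ']; group]
    exact mul_mem hb (hxA _ (pow_mul_inv_mem hxA hb n))

theorem trace_fixed {X : Type*} [Group X] {V : Type*} [AddCommGroup V] (ρ : X →* AddMonoid.End V)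
    (A : Subgroup X) [Finite A] (x : X) (hxA : ∀ a ∈ A, x * a * x⁻¹ ∈ A) {t : ℕ} (ht : t.Prime)
    (hbx : ∀ b ∈ A, (b * x) ^ t = 1)
    (hsum : ∀ b ∈ A, ∀ v, ∑ i ∈ range t, ρ ((b * x) ^ i) v = 0)
    (hcop : ∀ v : V, Nat.card A • v = 0 → v = 0) {a : X} (ha : a ∈ A) (v : V) : ρ a v = v := by
  haveI := Fintype.ofFinite A
  let S : V → V := fun w => ∑ b : A, ρ (b : X) w
  have hSfix : ∀ w, ρ a (S w) = S w := fun w => by
    show ρ a (∑ b : A, ρ (b : X) w) = ∑ b : A, ρ (b : X) w
    rw [map_sum]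
    exact Fintype.sum_equiv (Equiv.mulLeft (⟨a, ha⟩ : A)) _ _ fun b => by
      rw [Equiv.coe_mulLeft, Subgroup.coe_mul, map_mul]; rfl
  have hS : ∀ i, 0 < i → i < t → ∀ w, ∑ b : A, ρ (((b : X) * x) ^ i) w = S (ρ (x ^ i) w) := by
    intro i hi hit w
    let f : A → A := fun b => ⟨((b : X) * x) ^ i * (x ^ i)⁻¹, pow_mul_inv_mem hxA b.2 i⟩
    have hf : Function.Injective f := fun b c h => by
      have h' : ((b : X) * x) ^ i = ((c : X) * x) ^ i :=
        mul_right_cancel (congrArg Subtype.val h)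
      obtain ⟨j, -, hj⟩ := Nat.exists_mul_mod_eq_one_of_coprime
        ((Nat.coprime_of_lt_prime hi.ne' hit ht).symm) ht.one_lt
      have key : ∀ d : A, (((d : X) * x) ^ i) ^ j = (d : X) * x := fun d => by
        rw [← pow_mul, pow_eq_pow_mod _ (hbx d d.2), hj, pow_one]
      have h2 := congrArg (· ^ j) h'
      simp only [key] at h2
      exact Subtype.ext (mul_right_cancel h2)
    refine Fintype.sum_equiv (Equiv.ofBijective f (Finite.injective_iff_bijective.1 hf)) _
      (fun b : A => ρ (b : X) (ρ (x ^ i) w)) fun b => ?_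
    rw [Equiv.ofBijective_apply, ← Function.comp_apply (f := ρ ((f b : A) : X)),
      ← AddMonoid.End.coe_mul, ← map_mul]
    simp [f]
  obtain ⟨k, hk⟩ : ∃ k, t = k + 1 := ⟨t - 1, by have := ht.pos; omega⟩
  have h0 : Nat.card A • v + ∑ i ∈ range k, S (ρ (x ^ (i + 1)) v) = 0 := by
    have h : ∑ b : A, ∑ i ∈ range t, ρ (((b : X) * x) ^ i) v = 0 :=
      sum_eq_zero fun b _ => hsum b b.2 v
    rw [sum_comm, hk, sum_range_succ', add_comm] at h
    rw [← h, Nat.card_eq_fintype_card]
    congr 1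
    · simp
    · exact sum_congr rfl fun i hi => (hS _ (Nat.succ_pos i)
        (by rw [hk]; exact Nat.succ_lt_succ (mem_range.1 hi)) v).symm
  have h1 : S v + ∑ i ∈ range k, S (ρ (x ^ (i + 1)) v) = 0 := by
    have h : S (∑ i ∈ range t, ρ ((1 * x) ^ i) v) = 0 := by
      rw [hsum 1 A.one_mem v]
      exact sum_eq_zero fun b _ => map_zero _
    simp only [one_mul, S, map_sum] at h
    rw [sum_comm, hk, sum_range_succ', add_comm] at h
    rw [← h]
    simp [S]
  have hv : Nat.card A • v = S v := add_right_cancel (h0.trans h1.symm)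
  refine sub_eq_zero.1 (hcop _ ?_)
  rw [smul_sub, ← map_nsmul, hv, hSfix, sub_self]

variable [Finite G] {W A : Subgroup G} {x : G} {t p : ℕ} [Fact p.Prime]

/-- A `p`-group `W` is centralized by a coprime `A` if all elements of `W A x` have exponent `t`. -/
theorem le_centralizer_of_pow (ht : t.Prime) (hW : IsPGroup p W)
    (hcop : (Nat.card A).Coprime (Nat.card W)) (hAW : A ≤ normalizer (W : Set G))
    (hxW : x ∈ normalizer (W : Set G)) (hxA : ∀ a ∈ A, x * a * x⁻¹ ∈ A)
    (hbx : ∀ b ∈ A, (b * x) ^ t = 1) (hwbx : ∀ w ∈ W, ∀ b ∈ A, (w * (b * x)) ^ t = 1) :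
    A ≤ centralizer (W : Set G) := by
  set N := normalizer (W : Set G) with hN
  let ρ : N →* AddMonoid.End (Additive (Abelianization W)) :=
    { toFun := fun g => MonoidHom.toAdditive (Abelianization.map (W.normalizerMonoidHom g).toMonoidHom)
      map_one' := by
        rw [map_one]
        exact congrArg MonoidHom.toAdditive (Abelianization.map_id (G := W))
      map_mul' := fun g h => by
        rw [map_mul]
        exact congrArg MonoidHom.toAdditive (Abelianization.map_comp
          (W.normalizerMonoidHom h).toMonoidHom (W.normalizerMonoidHom g).toMonoidHom).symm }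
  let φ : W → Additive (Abelianization W) := fun w => Additive.ofMul (Abelianization.of w)
  have hρ : ∀ (g : N) (w : W) (h : (g : G) * w * (g : G)⁻¹ ∈ W),
      ρ g (φ w) = φ ⟨(g : G) * w * (g : G)⁻¹, h⟩ := fun g w h => rfl
  have htwist : ∀ (g : N) (w : W) (n : ℕ), ∃ z : W, ((w : G) * g) ^ n = z * (g : G) ^ n ∧
      φ z = ∑ i ∈ range n, ρ (g ^ i) (φ w) := by
    intro g w n
    induction n with
    | zero => exact ⟨1, by simp, by simp [φ]⟩
    | succ n ih =>
      obtain ⟨z, hz, hφ⟩ := ih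
      have hgz := (mem_normalizer_iff.1 g.2 z).1 z.2
      refine ⟨w * ⟨_, hgz⟩, ?_, ?_⟩
      · rw [pow_succ', hz, pow_succ', Subgroup.coe_mul]
        group
      · rw [show φ (w * ⟨_, hgz⟩) = φ w + φ ⟨_, hgz⟩ from congrArg Additive.ofMul (map_mul _ _ _),
          ← hρ, hφ, map_sum, sum_range_succ', add_comm, pow_zero, map_one]
        simp only [pow_succ', map_mul, AddMonoid.End.coe_mul, Function.comp_apply,
          AddMonoid.End.coe_one, id_eq]
  have hcard : Nat.card (A.subgroupOf N) = Nat.card A :=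
    Nat.card_congr (subgroupOfEquivOfLe hAW).toEquiv
  have hfix : ∀ a (ha : a ∈ A) (v), ρ ⟨a, hAW ha⟩ v = v := by
    intro a ha v
    refine trace_fixed ρ (A.subgroupOf N) ⟨x, hxW⟩ (fun b hb => hxA _ hb) ht
      (fun b hb => Subtype.ext (by simpa using hbx b hb)) (fun b hb v => ?_) (fun v hv => ?_)
      (show (⟨a, hAW ha⟩ : N) ∈ A.subgroupOf N from ha) v
    · obtain ⟨w, rfl⟩ : ∃ w, φ w = v := QuotientGroup.mk_surjective (Additive.toMul v)
      obtain ⟨z, hz, hφ⟩ := htwist (b * ⟨x, hxW⟩) w t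
      rw [← hφ]
      have h1 : ((b * ⟨x, hxW⟩ : N) : G) ^ t = 1 := hbx b hb
      rw [h1, mul_one, Subgroup.coe_mul, hwbx w w.2 b hb] at hz
      rw [show z = 1 from Subtype.ext hz.symm]
      simp [φ]
    · rw [hcard] at hv
      rw [← AddMonoid.addOrderOf_eq_one_iff]
      refine Nat.eq_one_of_dvd_coprimes hcop (addOrderOf_dvd_of_nsmul_eq_zero hv) ?_
      exact (addOrderOf_dvd_natCard v).trans (card_quotient_dvd_card _)
  refine Coprime.le_centralizer_of_frattini hAW
    (hcop.coprime_dvd_right (card_subgroup_dvd_card _)) fun a ha k hk => ?_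
  have hak : a * k * a⁻¹ ∈ W := (mem_normalizer_iff.1 (hAW ha) k).1 hk
  have h := congrArg Additive.toMul ((hρ ⟨a, hAW ha⟩ ⟨k, hk⟩ hak).symm.trans (hfix a ha _))
  have hc : (⟨a * k * a⁻¹, hak⟩ : W) * (⟨k, hk⟩ : W)⁻¹ ∈ _root_.commutator W := by
    rw [← Abelianization.ker_of, MonoidHom.mem_ker, map_mul, map_inv, mul_inv_eq_one]
    exact h
  exact ⟨_, PGroup.commutator_le_frattini hW hc, rfl⟩

end Cfsg.Agent.TwoPOrders
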